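import Cfsg.Agent.H704.DegOK
import Cfsg.Agent.H704.LowDegree
import Cfsg.Agent.H704.EnumP
import Cfsg.Agent.H621.SymDeg.Chars
import Cfsg.Agent.H417.BlockCount

/-!
# Groups whose degrees are degrees of `S_n` (helper704)

* `SubDeg n K` : the degrees of `K` are degrees of `S_n`;
* `DegM two n K` : the same, up to a factor two if `two = true`;
* `IM K` : every prime divisor of `|K|` divides a degree of `K`;
* `Facts K N P S` : the facts used;
* `Cover n Q E` : `E` enumerates the degrees `d` of `S_n` with `Q d`;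
* `kill` : the kernel check at one `n`.
-/

set_option autoImplicit false
set_option linter.unusedSectionVars false

universe u

namespace Cfsg.Agent.H704.DS

open Cfsg Subgroup
open Cfsg.Agent.Characters.Core
open Cfsg.Agent.M23Order.Base

/-- the degrees of `T` are degrees of `S_n` -/
def SubDeg (n : ℕ) (T : Type*) [Group T] : Prop :=
  ∀ ψ : T → ℂ, IsIrrCharacter T ψ → ∃ d : ℕ, IsDeg n d ∧ ψ 1 = (d : ℂ)

/-- the degrees of `T` are `d`, or `d / 2` if `two = true`, for degrees `d` of `S_n` -/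
def DegM (two : Bool) (n : ℕ) (T : Type*) [Group T] : Prop :=
  ∀ ψ : T → ℂ, IsIrrCharacter T ψ → ∃ d : ℕ, IsDeg n d ∧ ((d : ℂ) = ψ 1 ∨ (two = true ∧ (d : ℂ) = 2 * ψ 1))

/-- every prime divisor of the order divides the degree of an irreducible character (Itô–Michler) -/
def IM (T : Type*) [Group T] : Prop :=
  ∀ p : ℕ, p.Prime → p ∣ Nat.card T → ∃ (ψ : T → ℂ) (e : ℕ), IsIrrCharacter T ψ ∧ ψ 1 = (e : ℂ) ∧ p ∣ e

theorem SubDeg.degM {n : ℕ} {T : Type*} [Group T] (h : SubDeg n T) : DegM false n T := by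
  intro ψ hψ
  obtain ⟨d, h1, h2⟩ := h ψ hψ
  exact ⟨d, h1, Or.inl h2.symm⟩

theorem _root_.Cfsg.Agent.H704.DegOK.degM {n : ℕ} {T : Type*} [Group T] (h : DegOK n T) : DegM true n T := by
  intro ψ hψ
  obtain ⟨d, h1, h2⟩ := h ψ hψ
  exact ⟨d, h1, h2.imp id fun h3 => ⟨rfl, h3⟩⟩

theorem SubDeg.degOK {n : ℕ} {T : Type*} [Group T] (h : SubDeg n T) : DegOK n T := by
  intro ψ hψ
  obtain ⟨d, h1, h2⟩ := h ψ hψ
  exact ⟨d, h1, Or.inl h2.symm⟩

theorem DegM.nat {two : Bool} {n : ℕ} {T : Type*} [Group T] (h : DegM two n T) {ψ : T → ℂ}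
    (hψ : IsIrrCharacter T ψ) {e : ℕ} (he : ψ 1 = e) :
    ∃ d : ℕ, IsDeg n d ∧ (d = e ∨ (two = true ∧ d = 2 * e)) := by
  obtain ⟨d, h1, h2⟩ := h ψ hψ
  refine ⟨d, h1, ?_⟩
  rw [he] at h2
  rcases h2 with h2 | ⟨h3, h2⟩
  · exact Or.inl (by exact_mod_cast h2)
  · exact Or.inr ⟨h3, by exact_mod_cast h2⟩

/-- a self-centralizing Sylow subgroup of order `p`, with `e = |N : C|` -/
def SCok (K : Type u) [Group K] [Finite K] (p e : ℕ) : Prop :=
  3 ≤ p ∧ 0 < e ∧ e < p ∧ ∃ (t : ℕ) (P : Sylow p K), 0 < t ∧ e * t = p - 1 ∧ Nonempty (SC p e t P)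

theorem SCok.mk' {K : Type u} [Group K] [Finite K] (p : ℕ) (hp : p.Prime) (hp2 : p ≠ 2) (hd : p ∣ Nat.card K)
    (hdd : ¬ p ^ 2 ∣ Nat.card K)
    (hC : ∀ y : K, orderOf y = p → Nat.card (centralizer ({y} : Set K)) = p) {e : ℕ}
    (he : Nat.card K / p % p = e) (ht : e * ((p - 1) / e) = p - 1) : SCok K p e := by
  haveI : Fact p.Prime := ⟨hp⟩
  have h2 := hp.two_le
  obtain ⟨P, -, h⟩ := H417.BlockCount.exists_SC p hp2 hd hdd hC he ht
  have h3 : 0 < e := by
    rcases Nat.eq_zero_or_pos e with h0 | h0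
    · rw [h0, zero_mul] at ht; omega
    · exact h0
  refine ⟨by omega, h3, he ▸ Nat.mod_lt _ hp.pos, _, P, ?_, ht, h⟩
  apply Nat.pos_of_ne_zero
  intro h0
  rw [h0, mul_zero] at ht
  omega

/-- the facts on `K` -/
structure Facts (K : Type u) [Group K] [Finite K] (N : ℕ) (P : List ℕ) (S : List (ℕ × ℕ)) : Prop where
  card : Nat.card K = N
  perfect : commutator K = ⊤
  prime : ∀ p ∈ P, p.Prime ∧ p ∣ N
  im : IM K
  sc : ∀ q ∈ S, SCok K q.1 q.2

/-- no residue condition fails -/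
def badRes (S : List (ℕ × ℕ)) (e : ℕ) : Bool :=
  S.any fun q => (e % q.1 != 0) && (e % q.1 != 1) && (e % q.1 != q.1 - 1) && (e % q.1 != q.2) && (e % q.1 != q.1 - q.2)

/-- `e` is not the degree of a nontrivial irreducible character -/
def base (N : ℕ) (S : List (ℕ × ℕ)) (e : ℕ) : Bool :=
  (e == 1) || (N % e != 0) || Nat.ble N (e * e) || badRes S e

/-- the test of a degree `d` of `S_n` -/
def leaf (two : Bool) (f : ℕ → Bool) (d : ℕ) : Bool :=
  f d && (!two || d % 2 != 0 || f (d / 2))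

variable {K : Type u} [Group K] [Finite K] {N n : ℕ} {P : List ℕ} {S : List (ℕ × ℕ)} {two : Bool}

/-- degrees divide the order -/
theorem dvd_card {ψ : K → ℂ} (hψ : IsIrrCharacter K ψ) {e : ℕ} (he : ψ 1 = e) : e ∣ Nat.card K := by
  obtain ⟨n, ρ, hρ, hρ'⟩ := hψ
  have h1 := Characters.DegreeBounds.finrank_dvd_card ρ
  have h2 : (Module.finrank ℂ (Fin n → ℂ) : ℂ) = e := by
    rw [← he, ← hρ', Representation.char_one]
  have h3 : Module.finrank ℂ (Fin n → ℂ) = e := by exact_mod_cast h2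
  rwa [h3] at h1

/-- squares of degrees -/
theorem sq_lt_card {ψ : K → ℂ} (hψ : IsIrrCharacter K ψ) {e : ℕ} (he : ψ 1 = e) (h1 : e ≠ 1) :
    e * e < Nat.card K := by
  classical
  have := finite_irr (G := K)
  have := Fintype.ofFinite (IrrCharacter K)
  choose d hd0 hd using fun η : IrrCharacter K => isIrr_apply_one η.2
  have hsum : ∑ η : IrrCharacter K, d η ^ 2 = Nat.card K := by
    have h1 := CharDeep.PowerDegrees.sum_sq (G := K)
    simp only [hd] at h1
    exact_mod_cast h1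
  let o : IrrCharacter K := ⟨1, isIrr_one⟩
  have ho : d o = 1 := by
    have h1 := hd o
    have h2 : (o : K → ℂ) 1 = 1 := rfl
    rw [h2] at h1
    exact_mod_cast h1.symm
  rw [← Finset.add_sum_erase _ _ (Finset.mem_univ o), ho, one_pow] at hsum
  let η : IrrCharacter K := ⟨ψ, hψ⟩
  have hη : d η = e := by
    have h2 := hd η
    rw [show ((η : IrrCharacter K) : K → ℂ) = ψ from rfl, he] at h2
    exact_mod_cast h2.symm
  have hηo : η ≠ o := by
    intro h0
    rw [h0, ho] at hη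
    exact h1 hη.symm
  have h2 : d η ^ 2 ≤ ∑ η ∈ Finset.univ.erase o, d η ^ 2 :=
    Finset.single_le_sum (f := fun η => d η ^ 2) (fun _ _ => Nat.zero_le _)
      (Finset.mem_erase.2 ⟨hηo, Finset.mem_univ _⟩)
  rw [hη, pow_two] at h2
  omega

theorem dg_mk {ψ : K → ℂ} (hψ : IsIrrCharacter K ψ) {e : ℕ} (he : ψ 1 = e) : dg (⟨ψ, hψ⟩ : IrrCharacter K) = e :=
  dg_of_eq he

/-- the degree of a nontrivial irreducible character of a perfect group -/
theorem Facts.base_false (F : Facts K N P S) {ψ : K → ℂ} (hψ : IsIrrCharacter K ψ) {e : ℕ} (he : ψ 1 = e)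
    (h1 : e ≠ 1) : base N S e = false := by
  have h2 : e ∣ N := by rw [← F.card]; exact dvd_card hψ he
  have h3 : e * e < N := by rw [← F.card]; exact sq_lt_card hψ he h1
  have h4 : badRes S e = false := by
    rw [badRes, List.any_eq_false]
    intro q hq
    obtain ⟨g1, g2, g3, t, Q, g4, g5, ⟨D⟩⟩ := F.sc q hq
    have h5 := H417.BlockCount.mod_cases D (by omega) g2 g3 ⟨ψ, hψ⟩
    rw [dg_mk hψ he] at h5
    rcases h5 with h | h | h | h | h <;> simp [h]
  have hne : N % e = 0 := Nat.mod_eq_zero_of_dvd h2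
  have h5 : Nat.ble N (e * e) = false := by
    rw [Bool.eq_false_iff]
    intro h
    have := Nat.le_of_ble_eq_true h
    omega
  unfold base
  rw [h4, hne, h5]
  simp [h1]

/-- the test functions on the nontrivial degrees -/
theorem Facts.test (F : Facts K N P S) {f : ℕ → Bool} (hd : DegM two n K)
    (h : ∀ d, IsDeg n d → leaf two (fun e => base N S e || f e) d = true) {ψ : K → ℂ} (hψ : IsIrrCharacter K ψ)
    {e : ℕ} (he : ψ 1 = e) (h1 : e ≠ 1) : f e = true := by
  obtain ⟨d, h2, h3⟩ := hd.nat hψ he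
  have h4 := h d h2
  rw [leaf, Bool.and_eq_true] at h4
  have h5 : (base N S e || f e) = true := by
    rcases h3 with rfl | ⟨rfl, rfl⟩
    · exact h4.1
    · have h6 := h4.2
      rw [Nat.mul_mod_right, Nat.mul_div_cancel_left _ (by norm_num)] at h6
      simpa using h6
  rw [F.base_false hψ he h1, Bool.false_or] at h5
  exact h5

/-- `E` enumerates the degrees `d` of `S_n` with `Q d` -/
def Cover (n : ℕ) (Q : ℕ → Prop) (E : (ℕ → Bool) → Bool) : Prop :=
  ∀ chk : ℕ → Bool, E chk = true → ∀ d, IsDeg n d → Q d → chk d = true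

/-- the degrees without `Q` are no degrees of `K`, nor twice a degree of `K` -/
def Base2 (two : Bool) (N : ℕ) (S : List (ℕ × ℕ)) (Q : ℕ → Prop) : Prop :=
  ∀ d, ¬ Q d → base N S d = true ∧ (two = true → d % 2 = 0 → base N S (d / 2) = true)

theorem Facts.test' (F : Facts K N P S) {f : ℕ → Bool} (hd : DegM two n K) {Q : ℕ → Prop}
    {E : (ℕ → Bool) → Bool} (hE : Cover n Q E) (hQ : Base2 two N S Q)
    (h : E (leaf two fun e => base N S e || f e) = true) {ψ : K → ℂ} (hψ : IsIrrCharacter K ψ)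
    {e : ℕ} (he : ψ 1 = e) (h1 : e ≠ 1) : f e = true := by
  refine F.test hd ?_ hψ he h1
  intro d hdd
  by_cases hq : Q d
  · exact hE _ h d hdd hq
  · obtain ⟨h2, h3⟩ := hQ d hq
    rw [leaf, h2]
    cases two with
    | false => rfl
    | true =>
      by_cases h4 : d % 2 = 0
      · simp [h3 rfl h4]
      · have h5 : d % 2 = 1 := by omega
        simp [h5]

/-- the check at one `n` -/
def kill (two : Bool) (N : ℕ) (P : List ℕ) (S : List (ℕ × ℕ)) (E : (ℕ → Bool) → Bool) : Bool :=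
  (P.any fun p => E (leaf two fun e => base N S e || e % p == 0)) ||
  (P.any fun p => E (leaf two fun e => base N S e || e % p != 0)) ||
  (S.any fun q => E (leaf two fun e => base N S e || (e % q.1 != q.2 && e % q.1 != q.1 - q.2))) ||
  (S.any fun q => Nat.ble 2 q.2 && E (leaf two fun e => base N S e || (e % q.1 != 1 && e % q.1 != q.1 - 1)))

theorem Facts.killed (F : Facts K N P S) (hd : DegM two n K) {Q : ℕ → Prop}
    {E : (ℕ → Bool) → Bool} (hE : Cover n Q E) (hQ : Base2 two N S Q) (h : kill two N P S E = true) : False := by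
  rw [kill, Bool.or_eq_true, Bool.or_eq_true, Bool.or_eq_true, List.any_eq_true, List.any_eq_true,
    List.any_eq_true, List.any_eq_true] at h
  rcases h with ((⟨p, hp, h⟩ | ⟨p, hp, h⟩) | ⟨q, hq, h⟩) | ⟨q, hq, h⟩
  · -- all degrees are divisible by `p`
    obtain ⟨g1, g2⟩ := F.prime p hp
    obtain ⟨ψ, e, h1, h2, h3, h4, -, -⟩ := H621.SymDeg.exists_irr_not_dvd F.perfect g1 (by rw [F.card]; exact g2)
    have h5 := F.test' hd hE hQ h h1 h2 (by omega)
    simp only [beq_iff_eq] at h5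
    exact h4 (Nat.dvd_of_mod_eq_zero h5)
  · -- all degrees are prime to `p`
    obtain ⟨g1, g2⟩ := F.prime p hp
    obtain ⟨ψ, e, h1, h2, h3⟩ := F.im p g1 (by rw [F.card]; exact g2)
    have h4 : e ≠ 1 := by
      rintro rfl
      exact g1.one_lt.ne' (Nat.dvd_one.1 h3)
    have h5 := F.test' hd hE hQ h h1 h2 h4
    simp only [bne_iff_ne, ne_eq] at h5
    exact h5 (Nat.mod_eq_zero_of_dvd h3)
  · -- no exceptional character
    obtain ⟨g1, g2, g3, t, R, g4, g5, ⟨D⟩⟩ := F.sc q hq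
    obtain ⟨Θ, hΘ⟩ : D.X.Nonempty := by rw [← Finset.card_pos, D.card_X]; exact g4
    have h1 := H417.BlockCount.mod_X' D g2 g3 hΘ
    have h2 : dg Θ ≠ 1 := by
      intro h0
      have h3 : (Θ : K → ℂ) = 1 := by
        apply H621.SymDeg.eq_one_of_perfect F.perfect Θ.2
        rw [dg_eq, h0, Nat.cast_one]
      have h4 : Θ = D.one := Subtype.ext (by rw [h3, D.coe_one])
      exact Finset.disjoint_left.1 D.disj D.one_mem (h4 ▸ hΘ)
    have h3 := F.test' hd hE hQ h Θ.2 (dg_eq Θ) h2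
    simp only [Bool.and_eq_true, bne_iff_ne, ne_eq] at h3
    tauto
  · -- no nontrivial nonexceptional character
    rw [Bool.and_eq_true] at h
    obtain ⟨hq2, h⟩ := h
    have hq2 := Nat.le_of_ble_eq_true hq2
    obtain ⟨g1, g2, g3, t, R, g4, g5, ⟨D⟩⟩ := F.sc q hq
    obtain ⟨χ, hχ, hne⟩ : ∃ χ ∈ D.NE, χ ≠ D.one := by
      apply Finset.exists_mem_ne
      rw [D.card_NE]; omega
    have h1 := H417.BlockCount.mod_NE' D (by omega) hχ
    have h2 : dg χ ≠ 1 := by
      intro h0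
      apply hne
      apply Subtype.ext
      rw [D.coe_one]
      apply H621.SymDeg.eq_one_of_perfect F.perfect χ.2
      rw [dg_eq, h0, Nat.cast_one]
    have h3 := F.test' hd hE hQ h χ.2 (dg_eq χ) h2
    simp only [Bool.and_eq_true, bne_iff_ne, ne_eq] at h3
    tauto

/-- primes dividing the order are at most `n` -/
theorem Facts.le_n (F : Facts K N P S) (hd : DegM two n K) {p : ℕ} (hp : p ∈ P) : p ≤ n := by
  obtain ⟨g1, g2⟩ := F.prime p hp
  obtain ⟨ψ, e, h1, h2, h3⟩ := F.im p g1 (by rw [F.card]; exact g2)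
  obtain ⟨d, h4, h5⟩ := hd.nat h1 h2
  obtain ⟨l, h6, h7⟩ := h4
  have h8 : e ∣ d := by
    rcases h5 with rfl | ⟨-, rfl⟩
    · exact dvd_rfl
    · exact Dvd.intro_left 2 rfl
  have h9 : p ∣ n.factorial := by
    rw [← h7]
    exact Dvd.dvd.mul_right (h3.trans h8) _
  exact (g1.dvd_factorial).1 h9

/-- the bound on `n` -/
theorem Facts.bound (F : Facts K N P S) (hd : DegM two n K) (hn : 9 ≤ n) (hP : P ≠ []) :
    (n * (n - 3)) ^ 2 < (if two = true then 16 else 4) * N := by
  by_contra hcon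
  rw [not_lt] at hcon
  have key : ∀ (ψ : K → ℂ) (e : ℕ), IsIrrCharacter K ψ → ψ 1 = e → e ≠ 1 →
      e = n - 1 ∨ 2 * e = n - 1 := by
    intro ψ e hψ he h1
    obtain ⟨d, h2, h3⟩ := hd.nat hψ he
    have h4 := sq_lt_card hψ he h1
    rw [F.card] at h4
    rcases low_degree hn h2 with h5 | h5 | h5
    · omega
    · omega
    · exfalso
      rcases h3 with rfl | ⟨rfl, rfl⟩
      · have h6 : (n * (n - 3)) ^ 2 ≤ (2 * d) ^ 2 := Nat.pow_le_pow_left h5 2
        have h7 : (2 * d) ^ 2 = 4 * (d * d) := by ring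
        have h8 : 4 * N ≤ (if two = true then 16 else 4) * N := by
          apply Nat.mul_le_mul_right
          split_ifs <;> norm_num
        omega
      · have h6 : (n * (n - 3)) ^ 2 ≤ (2 * (2 * e)) ^ 2 := Nat.pow_le_pow_left h5 2
        have h7 : (2 * (2 * e)) ^ 2 = 16 * (e * e) := by ring
        simp only [if_true] at hcon
        omega
  obtain ⟨q, hq⟩ := List.exists_mem_of_ne_nil _ hP
  obtain ⟨g1, g2⟩ := F.prime q hq
  obtain ⟨ψ, e, h1, h2, h3, -, h5, -⟩ := H621.SymDeg.exists_irr_not_dvd F.perfect g1 (by rw [F.card]; exact g2)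
  obtain ⟨p, hp, hpk⟩ : ∃ p : ℕ, p.Prime ∧ ∀ e : ℕ, e = n - 1 ∨ 2 * e = n - 1 → p ∣ e := by
    by_cases hev : 2 ∣ n - 1
    · obtain ⟨m, hm⟩ := hev
      refine ⟨m.minFac, Nat.minFac_prime (by omega), ?_⟩
      rintro e (he | he)
      · rw [he, hm]; exact (Nat.minFac_dvd m).mul_left 2
      · have : e = m := by omega
        rw [this]; exact Nat.minFac_dvd m
    · refine ⟨(n - 1).minFac, Nat.minFac_prime (by omega), ?_⟩
      rintro e (he | he)
      · rw [he]; exact Nat.minFac_dvd _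
      · exact absurd ⟨e, he.symm⟩ hev
  have h6 := hpk e (key ψ e h1 h2 (by omega))
  obtain ⟨ψ', e', k1, k2, k3, k4, -, -⟩ := H621.SymDeg.exists_irr_not_dvd F.perfect hp (h6.trans h5)
  exact k4 (hpk e' (key ψ' e' k1 k2 (by omega)))

theorem Facts.lt_of_bound (F : Facts K N P S) (hd : DegM two n K) (hn : 9 ≤ n) (hP : P ≠ []) {m : ℕ}
    (hm : (if two = true then 16 else 4) * N ≤ (m * (m - 3)) ^ 2) : n < m := by
  by_contra hcon
  rw [not_lt] at hcon
  have h1 := F.bound hd hn hP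
  have h2 : m * (m - 3) ≤ n * (n - 3) := Nat.mul_le_mul hcon (by omega)
  have h3 := Nat.pow_le_pow_left h2 2
  omega

/-! ### full enumeration -/

/-- all the degrees of `S_n` -/
def fullE (n : ℕ) (chk : ℕ → Bool) : Bool := go (fun _ H => chk (Nat.div n.factorial H)) (n + 1) n 1 [] 1

theorem cover_full (n : ℕ) : Cover n (fun _ => True) (fullE n) := by
  intro chk h d hd _
  exact check_of_isDeg h hd

theorem base2_true (two : Bool) (N : ℕ) (S : List (ℕ × ℕ)) : Base2 two N S fun _ => True :=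
  fun _ h => absurd trivial h

/-- **the check at one `n`, by full enumeration** (for `n ≤ 30`) -/
theorem Facts.kill_full (F : Facts K N P S) (hd : DegM two n K) (h : kill two N P S (fullE n) = true) : False :=
  F.killed hd (cover_full n) (base2_true _ _ _) h

end Cfsg.Agent.H704.DS
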