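import Cfsg.Agent.H704.DS.LieLarge
import Cfsg.Agent.H221.DS.JTwoTen
import Cfsg.Agent.H732.DS.McLEleven
import Cfsg.Agent.H705.DS.MEleven
import Cfsg.Agent.H705.DS.MTwelve
import Cfsg.Agent.H705.DS.MTwentyTwo
import Cfsg.Agent.H208.DS.Rows
import Cfsg.Agent.H107.DS.J1
import Cfsg.Agent.H442.DS.J3
import Cfsg.Agent.H999.DS.RowON
import Cfsg.Agent.H999.DS.RowJ4
import Cfsg.Agent.H999.DS.RowLy
import Cfsg.Agent.H999.DS.RowRu
import Cfsg.Agent.H999.DS.RowTh
import Cfsg.Agent.H765.DS.HSMcL
import Cfsg.Agent.H292.DS.Rows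
import Cfsg.Agent.H3.DS.Fi22Row
import Cfsg.Agent.H48.DS.RowM
import Cfsg.Agent.H953.DS.RowJ2
import Cfsg.Agent.H293.DS.RowFi24
import Cfsg.Agent.H442.DS.HeHN
import Cfsg.Agent.H334.DS.TitsRow
import Cfsg.Agent.H149.Sp.Base
import Cfsg.Agent.H867.TitsOut
import Cfsg.Agent.H55.OutGen
import Cfsg.Agent.PreUniq.Cases
import Cfsg.Agent.S2060
import Cfsg.Agent.S2063
import Cfsg.Agent.S2064
import Cfsg.Agent.S2065
import Cfsg.Agent.S2068
import Cfsg.Agent.S2069
import Cfsg.Agent.S2070
import Cfsg.Agent.S2071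
import Cfsg.Agent.S2076
import Cfsg.Agent.S2077
import Cfsg.Agent.S2080
import Cfsg.Agent.S2083
import Cfsg.Agent.S2084
import Cfsg.Agent.S2085

/-!
# S4906: almost simple groups whose degrees are degrees of `S_n` (helper704)
-/

set_option autoImplicit false
set_option linter.unusedSectionVars false

universe u

namespace Cfsg.Agent.H704.DS

open Cfsg Subgroup Cfsg.Agent.H704

/-- a subgroup of index one -/
theorem subDeg_of_index_one {n : ℕ} {A : Type u} [Group A] [Finite A] (S : Subgroup A) (h : S.index = 1)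
    (hd : SubDeg n A) : SubDeg n S := by
  rw [index_eq_one] at h
  intro ψ hψ
  have e : A ≃* S := (topEquiv.symm).trans (MulEquiv.subgroupCongr h.symm)
  have h1 : IsIrrCharacter A (ψ ∘ (e : A →* S)) := Characters.Core.isIrr_comp (e : A →* S) e.surjective hψ
  obtain ⟨d, h2, h3⟩ := hd _ h1
  refine ⟨d, h2, ?_⟩
  rw [Function.comp_apply, map_one] at h3
  exact h3

/-- a subgroup of index at most two -/
theorem degOK_of_index {n : ℕ} {A : Type u} [Group A] [Finite A] (S : Subgroup A) (h : S.index ∣ 2)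
    (hd : SubDeg n A) : DegOK n S := by
  rcases (Nat.dvd_prime Nat.prime_two).1 h with h1 | h2
  · exact (subDeg_of_index_one S h1 hd).degOK
  · intro ψ hψ
    obtain ⟨χ, h3, h4⟩ := H621.SymDeg.exists_over h2 hψ
    obtain ⟨d, h5, h6⟩ := hd χ h3
    refine ⟨d, h5, ?_⟩
    rw [← h6]
    exact h4

/-- the sporadic socles -/
theorem spor_false {n : ℕ} (h5 : 5 ≤ n) {A : Type u} [Group A] [Finite A] (S : Subgroup A) [S.Normal] (him : IM S)
    (h : IsSporadicGroup S) (hind : S.index ∣ Nat.card (Cfsg.Out S)) (hd : SubDeg n A) : False := by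
  have hi2 : S.index ∣ 2 := hind.trans (H149.Sp.card_out_dvd_two h)
  have hOK := degOK_of_index S hi2 hd
  have hone : ∀ {X : Type} [Group X], Nonempty (S ≃* X) → Nat.card (Cfsg.Out X) = 1 → SubDeg n S := by
    rintro X _ ⟨e⟩ hX
    apply subDeg_of_index_one S _ hd
    rw [H55.OutGen.card_out_congr e, hX] at hind
    exact Nat.dvd_one.1 hind
  rcases h with h | h | h | h | h | h | h | h | h | h | h | h | h | h | h | h | h | h | h | h | h | h | h | h | h | h
  · exact H705.DS.MEleven.row_M11 h h5 (hone h S2060.result)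
  · exact H705.DS.MTwelve.row_M12 h h5 hOK
  · exact H705.DS.row_M22 h h5 hOK
  · exact H208.DS.row_m23 h h5 (hone h S2063.result)
  · exact H208.DS.row_m24 h h5 (hone h S2064.result)
  · exact H107.DS.row_j1 h h5 (hone h S2065.result)
  · -- `J2`
    have h10 := H953.DS.row_J2 h h5 hOK
    subst h10
    obtain ⟨χ, h1, h2⟩ := H221.DS.JTwoTen.exists_deg S h
    obtain ⟨d, h3, h4⟩ := hd χ h1
    rw [h2] at h4
    have h6 : d = 63 := by exact_mod_cast h4.symm
    subst h6
    have h7 := low_degree (by norm_num) h3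
    have h8 := check_of_isDeg (chk := fun d => d != 63) (n := 10) (by decide +kernel) h3
    simp at h8
  · exact H442.DS.row_j3 h h5 hOK
  · exact H999.DS.row_j4 h h5 (hone h S2068.result)
  · exact H208.DS.row_co1 h h5 (hone h S2069.result)
  · exact H208.DS.row_co2 h h5 (hone h S2070.result)
  · exact H208.DS.row_co3 h h5 (hone h S2071.result)
  · -- `McL`
    have h11 := H765.DS.HSMcL.row_mcl h h5 hOK
    subst h11
    exact H732.DS.mcl_eleven S h hi2 hd
  · exact H765.DS.HSMcL.row_hs h h5 hOK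
  · exact H292.DS.suz h h5 hOK
  · exact H442.DS.row_he h him hOK
  · exact H999.DS.row_ru h h5 (hone h S2077.result)
  · exact H999.DS.row_on h h5 hOK
  · exact H999.DS.row_ly h h5 (hone h S2076.result)
  · exact H3.DS.Fi22.row_fi22 h h5 hOK
  · exact H292.DS.fi23 h h5 (hone h S2080.result)
  · exact H293.DS.row_fi24 h h5 hOK
  · exact H442.DS.row_hn h him hOK
  · exact H999.DS.row_th h h5 (hone h S2083.result)
  · exact H48.DS.row_b h him h5 (hone h S2084.result)
  · exact H48.DS.row_m h him h5 (hone h S2085.result)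

/-- **the main case analysis** -/
theorem socle {n : ℕ} (h5 : 5 ≤ n) {A : Type u} [Group A] [Finite A] (S : Subgroup A) [S.Normal] [IsSimpleGroup S]
    (hkn : IsKnownSimple' S) (him : IM S) (hna : ¬ IsMulCommutative S) (hind : S.index ∣ Nat.card (Cfsg.Out S))
    (hd : SubDeg n A) : Nonempty (S ≃* alternatingGroup (Fin n)) := by
  rcases PreUniq.known_cases hkn with h | ⟨m, hm, ⟨e⟩⟩ | ⟨p, hp, h⟩ | h | h
  · exfalso
    have : Fact (Nat.card S).Prime := ⟨h⟩
    have : IsCyclic S := isCyclic_of_prime_card (p := Nat.card S) rfl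
    exact hna inferInstance
  · have := H759.DS.alt_case h5 S hm e hind hd
    subst this
    exact ⟨e⟩
  · rcases Nat.lt_or_ge n 10 with h10 | h10
    · exact H657.DS.lie_small h5 (by omega) S hp h hind hd
    · exact (lie_large h10 S hna hp h hind hd).elim
  · exfalso
    have h1 : S.index ∣ 2 := by
      have h2 := H867.TitsOut.card_out_le h
      have h3 : 0 < Nat.card (Cfsg.Out S) := Nat.card_pos
      have h4 : Nat.card (Cfsg.Out S) = 1 ∨ Nat.card (Cfsg.Out S) = 2 := by omega
      rcases h4 with h4 | h4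
      · rw [h4] at hind; exact hind.trans (one_dvd 2)
      · rw [h4] at hind; exact hind
    exact H334.DS.TitsRow.row_tits h him (degOK_of_index S h1 hd)
  · exact (spor_false h5 S him h hind hd).elim

/-- **S4906** (given the classification and Itô–Michler) -/
theorem main {S : Type u} [Group S] [Finite S] [IsSimpleGroup S] (hS : ¬ IsMulCommutative S)
    (hkn : ∀ (X : Type u) [Group X] [Finite X] [IsSimpleGroup X], IsKnownSimple' X)
    (him : ∀ (X : Type u) [Group X] [Finite X] [IsSimpleGroup X], ¬ IsMulCommutative X → IM X)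
    (G : Subgroup (MulAut S)) (hG : (MulAut.conj : S →* MulAut S).range ≤ G) {n : ℕ} (hn : 5 ≤ n)
    (h : charDegrees G ⊆ charDegrees (Equiv.Perm (Fin n))) : Nonempty (S ≃* alternatingGroup (Fin n)) := by
  have hfin : Finite (MulAut S) := inferInstance
  -- the degrees
  have hd : SubDeg n G := by
    intro ψ hψ
    obtain ⟨e, -, he⟩ := Characters.Core.isIrr_apply_one hψ
    have h1 : e ∈ charDegrees G := H681.DegBasic.mem_charDegrees.2 ⟨ψ, hψ, he⟩
    obtain ⟨χ, h2, h3⟩ := H681.DegBasic.mem_charDegrees.1 (h h1)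
    obtain ⟨d, h4, h5⟩ := isDeg_of_irr h2
    refine ⟨d, h5, ?_⟩
    rw [he, ← h3, h4]
  -- the socle
  let R : Subgroup (MulAut S) := (MulAut.conj : S →* MulAut S).range
  have hR : R.Normal := Cfsg.innNormal S
  let T : Subgroup G := R.subgroupOf G
  have hT : T.Normal := hR.subgroupOf G
  have hinj : Function.Injective (MulAut.conj : S →* MulAut S) := by
    rw [← MonoidHom.ker_eq_bot_iff, eq_bot_iff]
    intro a ha
    have h0 : a ∈ center S := by
      rw [mem_center_iff]
      intro x
      have h1 : MulAut.conj a x = x := by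
        rw [MonoidHom.mem_ker.1 ha]; rfl
      rw [MulAut.conj_apply, mul_inv_eq_iff_eq_mul] at h1
      exact h1.symm
    rcases (inferInstance : (center S).Normal).eq_bot_or_eq_top with h1 | h1
    · rw [h1] at h0; exact h0
    · exfalso
      apply hS
      refine ⟨⟨fun a b => ?_⟩⟩
      have h2 : a ∈ center S := by rw [h1]; exact mem_top a
      exact (mem_center_iff.1 h2 b).symm
  let e : S ≃* T := (MonoidHom.ofInjective hinj).trans (subgroupOfEquivOfLe hG).symm
  have hTs : IsSimpleGroup T := e.symm.isSimpleGroup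
  have hna : ¬ IsMulCommutative T := by
    intro h1
    apply hS
    refine ⟨⟨fun a b => e.injective ?_⟩⟩
    rw [map_mul, map_mul]
    exact h1.is_comm.comm _ _
  have hind : T.index ∣ Nat.card (Cfsg.Out T) := by
    rw [← H55.OutGen.card_out_congr e]
    exact relIndex_dvd_index_of_normal R G
  obtain ⟨e'⟩ := socle hn T (hkn T) (him T hna) hna hind hd
  exact ⟨e.trans e'⟩

end Cfsg.Agent.H704.DS
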