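import Cfsg.Agent.H657.DS.LieSmall
import Cfsg.Agent.H334.DS.OutBound
import Cfsg.Agent.H759.DS.Alt
import Cfsg.Agent.H704.PP
import Cfsg.Agent.H704.DS.Base
import Cfsg.Agent.H808.SimpleQuot
import Cfsg.Agent.S0497

/-!
# S4906: socle of Lie type, `n ≥ 10` (helper704)
-/

set_option autoImplicit false
set_option linter.unusedSectionVars false

universe u

namespace Cfsg.Agent.H704.DS

open Cfsg Subgroup Cfsg.Agent.H704 Cfsg.Agent.NotCT
open scoped commutatorElement

/-- `|Out S| ≤ 4` and `|S|_p = 16` if `|S| = 4080` -/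
theorem out_4080 {S : Type u} [Group S] [Finite S] [IsSimpleGroup S] {p : ℕ}
    (hp : p.Prime) (h : IsLieTypeChar p S) (q : ℕ) (hq : q = p ^ (Nat.card S).factorization p) (h9 : 9 ≤ q)
    (hc : Nat.card S = 4080) : Nat.card (Cfsg.Out S) ≤ 4 ∧ q = 16 := by
  have : Fact p.Prime := ⟨hp⟩
  have hqS : q ∣ 4080 := by
    rw [← hc, hq]
    exact Nat.ordProj_dvd _ _
  obtain ⟨t, k, hv, ht⟩ := exists_typ hp h
  have ho := card_eq hp hv ht
  have h0 : ordProj[p] (Nat.card S) = p ^ (k * t.N) :=
    H808.SmallSylow.ordProj_eq hp Nat.card_pos.ne' (NotCT.dvd_card hp hv ho) (NotCT.not_dvd_card hp hv ho)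
  have hqN : q = (p ^ k) ^ t.N := by rw [hq, h0, pow_mul]
  change t.D (p ^ k) * Nat.card S = (p ^ k) ^ t.N * t.P (p ^ k) at ho
  have hk := one_le_k hv
  -- `q` is 16 or 17
  have hp5 : p = 2 ∨ p = 3 ∨ p = 5 ∨ p = 17 := by
    have h1 : p ∣ 4080 := by
      refine dvd_trans ?_ hqS
      rw [hq]
      apply dvd_pow_self
      intro h2
      rw [hq, h2, pow_zero] at h9
      omega
    rw [show 4080 = 2 * (2 * (2 * (2 * (3 * (5 * 17))))) by norm_num] at h1
    have e2 := fun (h : p ∣ 2) => (Nat.prime_dvd_prime_iff_eq hp Nat.prime_two).1 h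
    have e3 := fun (h : p ∣ 3) => (Nat.prime_dvd_prime_iff_eq hp Nat.prime_three).1 h
    have e5 := fun (h : p ∣ 5) => (Nat.prime_dvd_prime_iff_eq hp Nat.prime_five).1 h
    have e17 := fun (h : p ∣ 17) => (Nat.prime_dvd_prime_iff_eq hp (by norm_num)).1 h
    rcases hp.dvd_mul.1 h1 with h | h
    · exact Or.inl (e2 h)
    rcases hp.dvd_mul.1 h with h | h
    · exact Or.inl (e2 h)
    rcases hp.dvd_mul.1 h with h | h
    · exact Or.inl (e2 h)
    rcases hp.dvd_mul.1 h with h | h
    · exact Or.inl (e2 h)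
    rcases hp.dvd_mul.1 h with h | h
    · exact Or.inr (Or.inl (e3 h))
    rcases hp.dvd_mul.1 h with h | h
    · exact Or.inr (Or.inr (Or.inl (e5 h)))
    · exact Or.inr (Or.inr (Or.inr (e17 h)))
  have hq' : q = 16 ∨ q = 17 := by
    rw [hc] at hq
    rcases hp5 with rfl | rfl | rfl | rfl
    · left
      rw [hq]
      have : (4080 : ℕ).factorization 2 = 4 := by
        rw [show (4080 : ℕ) = 2 ^ 4 * 255 by norm_num, Nat.factorization_mul (by norm_num) (by norm_num),
          Nat.Prime.factorization_pow Nat.prime_two]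
        simp [Nat.factorization_eq_zero_of_not_dvd (show ¬ 2 ∣ 255 by norm_num)]
      rw [this]; norm_num
    · exfalso
      have : (4080 : ℕ).factorization 3 = 1 := by
        rw [show (4080 : ℕ) = 3 ^ 1 * 1360 by norm_num, Nat.factorization_mul (by norm_num) (by norm_num),
          Nat.Prime.factorization_pow Nat.prime_three]
        simp [Nat.factorization_eq_zero_of_not_dvd (show ¬ 3 ∣ 1360 by norm_num)]
      rw [this] at hq
      omega
    · exfalso
      have : (4080 : ℕ).factorization 5 = 1 := by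
        rw [show (4080 : ℕ) = 5 ^ 1 * 816 by norm_num, Nat.factorization_mul (by norm_num) (by norm_num),
          Nat.Prime.factorization_pow Nat.prime_five]
        simp [Nat.factorization_eq_zero_of_not_dvd (show ¬ 5 ∣ 816 by norm_num)]
      rw [this] at hq
      omega
    · right
      have : (4080 : ℕ).factorization 17 = 1 := by
        rw [show (4080 : ℕ) = 17 ^ 1 * 240 by norm_num, Nat.factorization_mul (by norm_num) (by norm_num),
          Nat.Prime.factorization_pow (by norm_num)]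
        simp [Nat.factorization_eq_zero_of_not_dvd (show ¬ 17 ∣ 240 by norm_num)]
      rw [hq, this]; norm_num
  rcases H334.DS.typ_list hp hv (hqN ▸ h9) (by omega) with rfl | ⟨rfl | rfl, h3⟩ | ⟨rfl | rfl, h3⟩ | ⟨rfl, h3⟩ |
    ⟨rfl, h3⟩
  · -- `L2`
    obtain ⟨F, _, _, hF, ⟨e⟩⟩ := ht
    have hqk : q = p ^ k := by rw [hqN]; simp [Typ.N]
    have hout : Nat.card (Cfsg.Out S) = Nat.gcd 2 (p ^ k - 1) * k := by
      rw [H334.DS.card_out_congr e, H60.HalfPsl.card_out hk hF (by omega)]
    have ho' : Nat.gcd 2 (p ^ k - 1) * Nat.card S = p ^ k * ((p ^ k) ^ 2 - 1) := by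
      have h4 := ho
      simp only [Typ.D, Typ.N, Typ.P, pA] at h4
      norm_num at h4
      exact h4
    rcases hq' with h16 | h17
    · refine ⟨?_, h16⟩
      rw [hout, ← hqk, h16]
      have hk4 : k ≤ 4 := by
        by_contra hcon
        have h1 : 2 ^ 5 ≤ p ^ k := (Nat.pow_le_pow_left hp.two_le 5).trans (Nat.pow_le_pow_right hp.pos (by omega))
        omega
      norm_num
      exact hk4
    · exfalso
      rw [← hqk, h17, hc] at ho'
      norm_num at ho'
  all_goals
    exfalso
    simp only [Typ.N] at hqN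
  · rcases h3 with h3 | h3 | h3 <;> rw [h3] at hqN <;> norm_num at hqN <;> omega
  · rcases h3 with h3 | h3 | h3 <;> rw [h3] at hqN <;> norm_num at hqN <;> omega
  · rw [h3] at hqN; norm_num at hqN; omega
  · rw [h3] at hqN; norm_num at hqN; omega
  · rw [h3] at hqN; norm_num at hqN; omega
  · rw [h3] at hqN; norm_num at hqN; omega

theorem perfect_of_simple {S : Type u} [Group S] [IsSimpleGroup S] (hna : ¬ IsMulCommutative S) :
    commutator S = ⊤ := by
  rcases (inferInstance : (commutator S).Normal).eq_bot_or_eq_top with h | h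
  · exfalso
    apply hna
    refine ⟨⟨fun a b => ?_⟩⟩
    have h1 : ⁅a, b⁆ ∈ commutator S := by
      rw [_root_.commutator_def]
      exact commutator_mem_commutator (mem_top a) (mem_top b)
    rw [h, mem_bot, commutatorElement_eq_one_iff_mul_comm] at h1
    exact h1
  · exact h

theorem small_chk : ((List.range 64).all fun e => (List.range 5).all fun m =>
    (4080 % e != 0) || (e % 2 == 0) || Nat.ble e 1 || Nat.ble (e * m) 118 || Nat.ble 128 (e * m)) = true := by
  decide +kernel

theorem small_4080 {e m : ℕ} (h1 : e < 64) (h2 : e ∣ 4080) (h3 : ¬ 2 ∣ e) (h4 : 1 < e) (h5 : m < 5)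
    (h6 : 119 ≤ e * m) (h7 : e * m ≤ 127) : False := by
  have h := List.all_eq_true.1 (List.all_eq_true.1 small_chk e (List.mem_range.2 h1)) m (List.mem_range.2 h5)
  simp only [Bool.or_eq_true, bne_iff_ne, ne_eq, beq_iff_eq] at h
  rcases h with (((h | h) | h) | h) | h
  · exact h (Nat.mod_eq_zero_of_dvd h2)
  · exact h3 (Nat.dvd_of_mod_eq_zero h)
  · have := Nat.le_of_ble_eq_true h; omega
  · have := Nat.le_of_ble_eq_true h; omega
  · have := Nat.le_of_ble_eq_true h; omega

/-- **Lie type, `n ≥ 10`** -/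
theorem lie_large {n : ℕ} (hn : 10 ≤ n) {A : Type u} [Group A] [Finite A] (S : Subgroup A) [S.Normal]
    [IsSimpleGroup S] (hna : ¬ IsMulCommutative S) {p : ℕ} (hp : p.Prime) (hl : IsLieTypeChar p S)
    (hind : S.index ∣ Nat.card (Cfsg.Out S)) (hd : SubDeg n A) : False := by
  have : Fact p.Prime := ⟨hp⟩
  obtain ⟨q, hq⟩ : ∃ q, q = p ^ (Nat.card S).factorization p := ⟨_, rfl⟩
  have hst : IsDeg n q := by
    rw [hq]
    exact H657.DS.SubD.st S hd hp hl
  have hpS : p ∣ Nat.card S := by
    obtain ⟨t, k, hv, ht⟩ := exists_typ hp hl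
    have ho := card_eq hp hv ht
    refine dvd_trans ?_ (NotCT.dvd_card hp hv ho)
    apply dvd_pow_self
    have h1 := one_le_k hv
    have h2 := NotCT.N_pos hv
    have := Nat.mul_pos h1 h2
    omega
  have he : 0 < (Nat.card S).factorization p := hp.factorization_pos_of_dvd Nat.card_pos.ne' hpS
  have hqn : q = n - 1 := by
    rcases pp_theorem hn hst hp he (Or.inl hq) with h | ⟨-, h⟩
    · exact h
    · exfalso
      rw [h] at hq
      have h2 : 2 ∣ p ^ (Nat.card S).factorization p := by rw [← hq]; norm_num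
      have h3 : 3 ∣ p ^ (Nat.card S).factorization p := by rw [← hq]; norm_num
      have h4 := (Nat.prime_dvd_prime_iff_eq Nat.prime_two hp).1 (Nat.prime_two.dvd_of_dvd_pow h2)
      have h5 := (Nat.prime_dvd_prime_iff_eq Nat.prime_three hp).1 (Nat.prime_three.dvd_of_dvd_pow h3)
      omega
  have hperf := perfect_of_simple hna
  obtain ⟨ψ, e, h1, h2, h3, h4, h5, h6⟩ := H621.SymDeg.exists_irr_not_dvd hperf hp hpS
  obtain ⟨d, hdA, h7, h8⟩ := H424.DegTools.clifford_up S (H681.DegBasic.mem_charDegrees.2 ⟨ψ, h1, h2⟩)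
  obtain ⟨χ, hχ, hχ1⟩ := H681.DegBasic.mem_charDegrees.1 hdA
  obtain ⟨d', hd', hd1⟩ := hd χ hχ
  have hdd : d = d' := by
    rw [hχ1] at hd1
    exact_mod_cast hd1
  subst hdd
  have hd0 : 0 < d := by
    obtain ⟨l, -, hl⟩ := hd'
    exact pos_of_deg hl
  have hed : e ≤ d := Nat.le_of_dvd hd0 h7
  have hsq : d * d < Nat.card A := sq_lt_card hχ hχ1 (by omega)
  have hA : Nat.card A ≤ Nat.card S * Nat.card (Cfsg.Out S) := by
    rw [← S.card_mul_index]
    exact Nat.mul_le_mul_left _ (Nat.le_of_dvd Nat.card_pos hind)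
  have hdn : d ≠ n - 1 := by
    rw [← hqn, hq]
    intro h0
    rw [h0] at h7
    obtain ⟨j, -, hj⟩ := (Nat.dvd_prime_pow hp).1 h7
    cases j with
    | zero => rw [pow_zero] at hj; omega
    | succ j => exact h4 (hj ▸ dvd_pow_self p (by omega))
  have hbig : n * (n - 3) ≤ 2 * d := by
    rcases low_degree (by omega) hd' with h | h | h
    · omega
    · exact absurd h hdn
    · exact h
  rcases H334.DS.out_bound hna hp hl q hq (by omega) with h | h | h
  · have e1 : (q + 1) * (q - 2) = n * (n - 3) := by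
      rw [show q + 1 = n by omega, show q - 2 = n - 3 by omega]
    rw [e1] at h
    have e2 : (n * (n - 3)) ^ 2 ≤ (2 * d) ^ 2 := Nat.pow_le_pow_left hbig 2
    have e3 : (2 * d) ^ 2 = 4 * (d * d) := by ring
    omega
  · obtain ⟨e⟩ := S0497.result h
    have := H759.DS.alt_case (by omega) S (by norm_num) e hind hd
    omega
  · obtain ⟨g1, g2⟩ := out_4080 hp hl q hq (by omega) h
    have hn17 : n = 17 := by omega
    subst hn17
    have hp2 : p = 2 := by
      have : p ∣ 16 := by
        rw [← g2, hq]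
        exact dvd_pow_self p (by omega)
      rw [show 16 = 2 ^ 4 by norm_num] at this
      exact (Nat.prime_dvd_prime_iff_eq hp Nat.prime_two).1 (hp.dvd_of_dvd_pow this)
    subst hp2
    rw [h] at h5 h6 hA
    obtain ⟨m, rfl⟩ := h7
    rw [Nat.mul_div_cancel_left _ (by omega)] at h8
    have hm : m ≤ 4 := (Nat.le_of_dvd Nat.card_pos (h8.trans hind)).trans g1
    have hd127 : e * m ≤ 127 := by
      by_contra hcon
      have : 128 * 128 ≤ e * m * (e * m) := Nat.mul_le_mul (by omega) (by omega)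
      have h9 : 4080 * Nat.card (Cfsg.Out S) ≤ 4080 * 4 := Nat.mul_le_mul_left _ g1
      omega
    refine small_4080 (e := e) (m := m) ?_ h5 h4 h3 (by omega) (by omega) hd127
    by_contra hcon
    have : 64 * 64 ≤ e * e := Nat.mul_le_mul (by omega) (by omega)
    omega

end Cfsg.Agent.H704.DS
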