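import Cfsg.Agent.H704.DS.LBTab

/-!
# Lower bounds for the degrees of `S_n`, `n ≥ 60` (helper704)
-/

set_option autoImplicit false
set_option linter.unusedSectionVars false
set_option maxRecDepth 100000

namespace Cfsg.Agent.H704.DS

open Finset Cfsg.Agent.H704

/-- `K!` times the degree of `(n - K, K)` -/
def Rp : ℕ → ℕ → ℕ
  | 0, _ => 1
  | K + 1, n => n.descFactorial K * (n - 1 - 2 * K)

theorem Rp_pascal {K n : ℕ} (h : 2 * K + 2 ≤ n) : Rp (K + 1) (n + 1) = Rp (K + 1) n + (K + 1) * Rp K n := by
  cases K with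
  | zero =>
    simp only [Rp, Nat.descFactorial_zero]
    omega
  | succ j =>
    obtain ⟨m, rfl⟩ := Nat.exists_eq_add_of_le h
    simp only [Rp]
    rw [Nat.succ_descFactorial_succ, Nat.descFactorial_succ]
    rw [show 2 * (j + 1) + 2 + m + 1 - 1 - 2 * (j + 1) = m + 2 by omega,
      show 2 * (j + 1) + 2 + m - j = j + 4 + m by omega,
      show 2 * (j + 1) + 2 + m - 1 - 2 * (j + 1) = m + 1 by omega,
      show 2 * (j + 1) + 2 + m - 1 - 2 * j = m + 3 by omega]
    ring

/-- growth -/
theorem Rp_growth {K x : ℕ} (hK : K ≤ 12) (hx : 59 ≤ x) : 5 * Rp K (x + 1) ≤ 7 * Rp K x := by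
  cases K with
  | zero => simp [Rp]
  | succ j =>
    simp only [Rp]
    have h1 : (x + 1 - j) * (x + 1).descFactorial j = (x + 1) * x.descFactorial j := Nat.succ_descFactorial x j
    have h2 : 5 * (x + 1) * (x + 1 - 1 - 2 * j) ≤ 7 * (x + 1 - j) * (x - 1 - 2 * j) := by
      obtain ⟨y, rfl⟩ := Nat.exists_eq_add_of_le hx
      have hj : j ≤ 11 := by omega
      interval_cases j <;>
      · simp only [Nat.add_sub_cancel]
        rw [show 59 + y + 1 = y + 60 by omega]
        first
          | (rw [show 59 + y - 2 * 0 = y + 59 by omega, show y + 60 - 0 = y + 60 by omega,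
              show 59 + y - 1 - 2 * 0 = y + 58 by omega]; nlinarith)
          | (rw [show 59 + y - 2 * 1 = y + 57 by omega, show y + 60 - 1 = y + 59 by omega,
              show 59 + y - 1 - 2 * 1 = y + 56 by omega]; nlinarith)
          | (rw [show 59 + y - 2 * 1 = y + 57 by omega, show 59 + y - 1 - 2 * 1 = y + 56 by omega]; nlinarith)
          | (rw [show 59 + y - 2 * 2 = y + 55 by omega, show y + 60 - 2 = y + 58 by omega,
              show 59 + y - 1 - 2 * 2 = y + 54 by omega]; nlinarith)
          | (rw [show 59 + y - 2 * 3 = y + 53 by omega, show y + 60 - 3 = y + 57 by omega,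
              show 59 + y - 1 - 2 * 3 = y + 52 by omega]; nlinarith)
          | (rw [show 59 + y - 2 * 4 = y + 51 by omega, show y + 60 - 4 = y + 56 by omega,
              show 59 + y - 1 - 2 * 4 = y + 50 by omega]; nlinarith)
          | (rw [show 59 + y - 2 * 5 = y + 49 by omega, show y + 60 - 5 = y + 55 by omega,
              show 59 + y - 1 - 2 * 5 = y + 48 by omega]; nlinarith)
          | (rw [show 59 + y - 2 * 6 = y + 47 by omega, show y + 60 - 6 = y + 54 by omega,
              show 59 + y - 1 - 2 * 6 = y + 46 by omega]; nlinarith)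
          | (rw [show 59 + y - 2 * 7 = y + 45 by omega, show y + 60 - 7 = y + 53 by omega,
              show 59 + y - 1 - 2 * 7 = y + 44 by omega]; nlinarith)
          | (rw [show 59 + y - 2 * 8 = y + 43 by omega, show y + 60 - 8 = y + 52 by omega,
              show 59 + y - 1 - 2 * 8 = y + 42 by omega]; nlinarith)
          | (rw [show 59 + y - 2 * 9 = y + 41 by omega, show y + 60 - 9 = y + 51 by omega,
              show 59 + y - 1 - 2 * 9 = y + 40 by omega]; nlinarith)
          | (rw [show 59 + y - 2 * 10 = y + 39 by omega, show y + 60 - 10 = y + 50 by omega,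
              show 59 + y - 1 - 2 * 10 = y + 38 by omega]; nlinarith)
          | (rw [show 59 + y - 2 * 11 = y + 37 by omega, show y + 60 - 11 = y + 49 by omega,
              show 59 + y - 1 - 2 * 11 = y + 36 by omega]; nlinarith)
    have h3 : 0 < x + 1 - j := by omega
    apply Nat.le_of_mul_le_mul_left _ h3
    calc (x + 1 - j) * (5 * ((x + 1).descFactorial j * (x + 1 - 1 - 2 * j)))
        = ((x + 1 - j) * (x + 1).descFactorial j) * (5 * (x + 1 - 1 - 2 * j)) := by ring
      _ = x.descFactorial j * (5 * (x + 1) * (x + 1 - 1 - 2 * j)) := by rw [h1]; ring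
      _ ≤ x.descFactorial j * (7 * (x + 1 - j) * (x - 1 - 2 * j)) := Nat.mul_le_mul_left _ h2
      _ = (x + 1 - j) * (7 * (x.descFactorial j * (x - 1 - 2 * j))) := by ring

theorem Rp_growth2 {K x : ℕ} (hK : K ≤ 12) (hx : 59 ≤ x) : Rp K (x + 2) ≤ 2 * Rp K x := by
  have h1 := Rp_growth (K := K) (x := x) hK hx
  have h2 := Rp_growth (K := K) (x := x + 1) hK (by omega)
  rw [show x + 1 + 1 = x + 2 by omega] at h2
  omega

theorem Rp_mono {K n m : ℕ} (hn : 2 * K ≤ n) (h : n ≤ m) : Rp K n ≤ Rp K m := by
  induction m, h using Nat.le_induction with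
  | base => exact le_rfl
  | succ m hm ih =>
    refine ih.trans ?_
    cases K with
    | zero => exact le_rfl
    | succ K => rw [Rp_pascal (by omega)]; exact Nat.le_add_right _ _

/-- the weights -/
def wt : ℕ → ℕ
  | 12 => 16
  | 11 => 65
  | _ => 95

theorem wt_anti {K : ℕ} (h1 : K + 1 ≤ 12) : wt (K + 1) ≤ wt K := by
  have : K ≤ 11 := by omega
  interval_cases K <;> decide

/-- the scaled bounds -/
def X (K n : ℕ) : ℕ := wt K * Rp K n * (Nat.factorial 12 / K.factorial)

theorem fac_dvd {K : ℕ} (hK : K + 1 ≤ 12) :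
    (Nat.factorial 12 / K.factorial) = (K + 1) * (Nat.factorial 12 / (K + 1).factorial) := by
  have : K ≤ 11 := by omega
  interval_cases K <;> decide

def baseX (n : ℕ) : Bool := (List.range 13).all fun K => Nat.ble (X K n) (100 * Nat.factorial 12 * tg n K)

theorem baseX60 : baseX 60 = true := by decide +kernel

theorem baseX61 : baseX 61 = true := by decide +kernel

theorem lbx_base {n : ℕ} (h1 : 20 ≤ n) (h2 : n ≤ 61) (h : baseX n = true) {K : ℕ} (hK : K ≤ 12) :
    LBs (100 * Nat.factorial 12) K n (X K n) := by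
  have h3 := (lbt h1 h2 hK).scale (100 * Nat.factorial 12)
  rw [mul_one] at h3
  refine h3.mono ?_
  rw [baseX, List.all_eq_true] at h
  exact Nat.le_of_ble_eq_true (h K (by rw [List.mem_range]; omega))

theorem lbx (n : ℕ) (hn : 60 ≤ n) : (∀ K ≤ 12, LBs (100 * Nat.factorial 12) K n (X K n)) ∧
    ∀ K ≤ 12, LBs (100 * Nat.factorial 12) K (n + 1) (X K (n + 1)) := by
  induction n, hn using Nat.le_induction with
  | base => exact ⟨fun K hK => lbx_base (by omega) (by omega) baseX60 hK,
      fun K hK => lbx_base (by omega) (by omega) baseX61 hK⟩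
  | succ n hn ih =>
    obtain ⟨g1, g2⟩ := ih
    refine ⟨g2, ?_⟩
    intro K hK
    cases K with
    | zero =>
      refine (LBs.base _ _ _).mono ?_
      simp only [X, Rp, wt, Nat.factorial_zero, Nat.div_one, mul_one]
      exact Nat.mul_le_mul_right _ (by norm_num)
    | succ K =>
      have h1 := g2 (K + 1) hK
      have h2 := g2 K (by omega)
      have h3 := g1 (K + 1) hK
      have e1 : X (K + 1) (n + 1 + 1) ≤ X (K + 1) (n + 1) + X K (n + 1) := by
        simp only [X]
        rw [Rp_pascal (show 2 * K + 2 ≤ n + 1 by omega), fac_dvd hK]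
        have := wt_anti hK
        calc wt (K + 1) * (Rp (K + 1) (n + 1) + (K + 1) * Rp K (n + 1)) * (Nat.factorial 12 / (K + 1).factorial)
            = wt (K + 1) * Rp (K + 1) (n + 1) * (Nat.factorial 12 / (K + 1).factorial) +
              wt (K + 1) * (Rp K (n + 1) * ((K + 1) * (Nat.factorial 12 / (K + 1).factorial))) := by ring
          _ ≤ wt (K + 1) * Rp (K + 1) (n + 1) * (Nat.factorial 12 / (K + 1).factorial) +
              wt K * (Rp K (n + 1) * ((K + 1) * (Nat.factorial 12 / (K + 1).factorial))) := by gcongr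
          _ = _ := by ring
      have e3 : X (K + 1) (n + 1 + 1) ≤ 2 * X (K + 1) n := by
        simp only [X]
        have := Rp_growth2 (K := K + 1) (x := n) hK (by omega)
        calc wt (K + 1) * Rp (K + 1) (n + 2) * (Nat.factorial 12 / (K + 1).factorial)
            ≤ wt (K + 1) * (2 * Rp (K + 1) n) * (Nat.factorial 12 / (K + 1).factorial) := by gcongr
          _ = _ := by ring
      have e2 : X (K + 1) (n + 1 + 1) ≤ 2 * X (K + 1) (n + 1) := by
        refine e3.trans ?_
        simp only [X]
        have := Rp_mono (K := K + 1) (n := n) (m := n + 1) (by omega) (by omega)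
        gcongr
      exact LBs.step (by omega) (by omega) h1 h2 (by rw [Nat.add_sub_cancel]; exact h3) e1 e2 e3

/-- **the bounds for `n ≥ 60`**: `B` is a bound if `100 K! B ≤ w_K Rp_K(m)` for an `m ≤ n` -/
theorem lb_high {K m n B : ℕ} (hK : K ≤ 12) (hm : 60 ≤ m) (hmn : m ≤ n)
    (h : 100 * K.factorial * B ≤ wt K * Rp K m) : LBs 1 K n B := by
  intro l d h1 h2 h3 h4 h5
  have h6 := (lbx n (by omega)).1 K hK l d h1 h2 h3 h4 h5
  rw [one_mul]
  have h7 := Rp_mono (K := K) (n := m) (m := n) (by omega) hmn
  have h8 : K.factorial * (Nat.factorial 12 / K.factorial) = Nat.factorial 12 :=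
    Nat.mul_div_cancel' (Nat.factorial_dvd_factorial hK)
  have h9 : 0 < 100 * Nat.factorial 12 := by positivity
  apply Nat.le_of_mul_le_mul_left _ h9
  calc 100 * Nat.factorial 12 * B = 100 * (K.factorial * (Nat.factorial 12 / K.factorial)) * B := by rw [h8]
    _ = (100 * K.factorial * B) * (Nat.factorial 12 / K.factorial) := by ring
    _ ≤ (wt K * Rp K m) * (Nat.factorial 12 / K.factorial) := Nat.mul_le_mul_right _ h
    _ ≤ (wt K * Rp K n) * (Nat.factorial 12 / K.factorial) := by gcongr
    _ ≤ _ := h6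

end Cfsg.Agent.H704.DS
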