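import Cfsg.Agent.H704.Enum
import Cfsg.Agent.H704.LowDegree

/-!
# Lower bounds for the degrees of `S_n`, first row and column at most `n - K` (helper704)
-/

set_option autoImplicit false
set_option linter.unusedSectionVars false

namespace Cfsg.Agent.H704.DS

open Finset Cfsg.Agent.H704

/-- `B` is a lower bound for `M` times the degrees of `S_n` with first row and column at most `n - K` -/
def LBs (M K n B : ℕ) : Prop := ∀ (l : List ℕ) (d : ℕ), Dec l → l.sum = n → d * hookProd l = n.factorial →
  l.headD 0 ≤ n - K → colLen l 0 ≤ n - K → B ≤ M * d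

theorem LBs.mono {M K n B B' : ℕ} (h : LBs M K n B) (hB : B' ≤ B) : LBs M K n B' :=
  fun l d h1 h2 h3 h4 h5 => hB.trans (h l d h1 h2 h3 h4 h5)

theorem LBs.of_le {M K K' n B : ℕ} (h : LBs M K n B) (hK : K ≤ K') : LBs M K' n B :=
  fun l d h1 h2 h3 h4 h5 => h l d h1 h2 h3 (by omega) (by omega)

theorem LBs.base (M K n : ℕ) : LBs M K n M := fun _ _ _ _ h3 _ _ => Nat.le_mul_of_pos_right _ (pos_of_deg h3)

theorem LBs.scale {M K n B : ℕ} (h : LBs M K n B) (c : ℕ) : LBs (c * M) K n (c * B) :=
  fun l d h1 h2 h3 h4 h5 => by rw [mul_assoc]; exact Nat.mul_le_mul_left _ (h l d h1 h2 h3 h4 h5)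

theorem head_add_col_le {l : List ℕ} (hl : Dec l) (h0 : 0 < l.headD 0) : l.headD 0 + colLen l 0 ≤ l.sum + 1 := by
  have h1 := sum_eq_sum_colLen hl
  obtain ⟨m, hm⟩ : ∃ m, l.headD 0 = m + 1 := ⟨l.headD 0 - 1, by omega⟩
  have h2 : ∑ j ∈ range (l.headD 0), colLen l j = ∑ j ∈ range m, colLen l (j + 1) + colLen l 0 := by
    rw [hm, sum_range_succ']
  have h3 : ∑ j ∈ range m, 1 ≤ ∑ j ∈ range m, colLen l (j + 1) := by
    apply sum_le_sum
    intro j hj
    rw [mem_range] at hj
    have : 0 < colLen l (j + 1) := by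
      rw [lt_colLen_iff hl, ← headD_eq_getD]; omega
    exact this
  rw [sum_const, card_range, smul_eq_mul, mul_one] at h3
  omega

theorem lb_head {M n K B B0 : ℕ} (hK : 1 ≤ K) (hn : 2 * K + 3 ≤ n) (ih : LBs M K n B) (ih0 : LBs M (K - 1) n B0)
    {l : List ℕ} {d : ℕ} (hl : Dec l) (hs : l.sum = n + 1) (hd : d * hookProd l = (n + 1).factorial)
    (hh : l.headD 0 = n + 1 - K) : B + B0 ≤ M * d := by
  obtain ⟨h1, h2, h3⟩ := sum_facts hl (by omega)
  have hcol := head_add_col_le hl h3
  have hc0 : l.getD (0 + 1) 0 < l.getD 0 0 := by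
    rw [← headD_eq_getD, zero_add]; omega
  have hc1 := corner_last hl (by omega)
  have hlen0 : 0 < l.length := lt_length_of_getD hc0
  obtain ⟨d1, -, hd1⟩ := exists_deg (dec_rm hl hc0) (n := n) (by have := sum_rm hc0; omega)
  obtain ⟨d2, hp2, hd2⟩ := exists_deg (dec_rm hl hc1) (n := n) (by have := sum_rm hc1; omega)
  have h4 := branch_two hl hs (i := 0) (k := colLen l 0 - 1) (by omega) hc0 hc1 hd hd1 hd2
  have h5 := ih (rm l 0) d1 (dec_rm hl hc0) (by have := sum_rm hc0; omega) hd1 (by rw [headD_rm_zero hlen0]; omega)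
    ((colLen_rm_le hl hc0 0).trans (by omega))
  have h6 := ih0 (rm l (colLen l 0 - 1)) d2 (dec_rm hl hc1) (by have := sum_rm hc1; omega) hd2
    (by rw [headD_rm_pos (lt_length_of_getD hc1) (by omega)]; omega) ((colLen_rm_le hl hc1 0).trans (by omega))
  have h7 : M * d1 + M * d2 ≤ M * d := by rw [← mul_add]; exact Nat.mul_le_mul_left _ h4
  omega

theorem LBs.step {M n K B B0 B2 C : ℕ} (hK : 1 ≤ K) (hn : 2 * K + 3 ≤ n) (ih1 : LBs M K n B)
    (ih0 : LBs M (K - 1) n B0) (ih2 : LBs M K (n - 1) B2) (c1 : C ≤ B + B0) (c2 : C ≤ 2 * B) (c3 : C ≤ 2 * B2) :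
    LBs M K (n + 1) C := by
  intro l d hl hs hd hh hc
  by_cases hA : l.headD 0 = n + 1 - K
  · -- the first row is long
    exact c1.trans (lb_head hK hn ih1 ih0 hl hs hd hA)
  by_cases hB : colLen l 0 = n + 1 - K
  · -- transpose
    have h0 : (transpose l).headD 0 = n + 1 - K := by
      rw [headD_eq_getD, getD_transpose hl, hB]
    exact c1.trans (lb_head hK hn ih1 ih0 (pairwise_transpose l) (by rw [sum_transpose hl, hs])
      (by rw [hookProd_transpose' hl, hd]) h0)
  · have hpos : 0 < l.headD 0 := by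
      by_contra hne
      have h1 := sum_eq_sum_colLen hl
      rw [show l.headD 0 = 0 by omega, sum_range_zero] at h1
      omega
    have hcpos : 0 < colLen l 0 := by
      rw [← getD_pos_iff hl, ← headD_eq_getD]; exact hpos
    have hc1 := corner_last hl hcpos
    have hc2 := corner_first hl hpos
    by_cases hne : colLen l (l.headD 0 - 1) - 1 = colLen l 0 - 1
    · -- a rectangle
      have h0 : 0 < colLen l (l.headD 0 - 1) := by
        rw [lt_colLen_iff hl, ← headD_eq_getD]; omega
      have hprod : l.headD 0 * colLen l 0 = n + 1 := by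
        rw [← hs, sum_eq_sum_colLen hl]
        rw [← smul_eq_mul, ← card_range (l.headD 0), ← sum_const]
        rw [card_range]
        apply sum_congr rfl
        intro j hj
        rw [mem_range] at hj
        have h1 := colLen_anti l (Nat.zero_le j)
        have h2 := colLen_anti l (show j ≤ l.headD 0 - 1 by omega)
        omega
      obtain ⟨a, ha⟩ : ∃ a, a = l.headD 0 := ⟨_, rfl⟩
      obtain ⟨k, hk⟩ : ∃ k, k = colLen l 0 := ⟨_, rfl⟩
      rw [← ha, ← hk] at hprod
      have ha2 : 2 ≤ a := by
        by_contra h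
        have : a = 1 := by omega
        rw [this, one_mul] at hprod
        omega
      have hk2 : 2 ≤ k := by
        by_contra h
        have : k = 1 := by omega
        rw [this, mul_one] at hprod
        omega
      have ha3 : a ≤ n - 1 - K := by
        have : a * 2 ≤ a * k := Nat.mul_le_mul_left a hk2
        omega
      have hk3 : k ≤ n - 1 - K := by
        have : 2 * k ≤ a * k := Nat.mul_le_mul_right k ha2
        omega
      rw [← hk] at hc1
      -- remove the corner
      obtain ⟨d1, -, hd1⟩ := exists_deg (dec_rm hl hc1) (n := n) (by have := sum_rm hc1; omega)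
      have h4 := branch_one hl hs hc1 hd hd1
      have hl1 := dec_rm hl hc1
      have hs1 : (rm l (k - 1)).sum = (n - 1) + 1 := by have := sum_rm hc1; omega
      have hlen := lt_length_of_getD hc1
      have e1 : l.getD (k - 1) 0 = a := by
        have h5 := (lt_colLen_iff hl (k - 1) (a - 1)).1 (by rw [ha]; omega)
        have h6 := getD_le_headD hl (k - 1)
        omega
      have e2 : l.getD (k - 2) 0 = a := by
        have h5 := (lt_colLen_iff hl (k - 2) (a - 1)).1 (by rw [ha]; omega)
        have h6 := getD_le_headD hl (k - 2)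
        omega
      have e3 : l.getD k 0 = 0 := by
        have : ¬ 0 < l.getD k 0 := by rw [getD_pos_iff hl]; omega
        omega
      have hc3 : (rm l (k - 1)).getD ((k - 2) + 1) 0 < (rm l (k - 1)).getD (k - 2) 0 := by
        rw [getD_rm hlen, getD_rm hlen, if_pos (by omega), if_neg (by omega), e1, e2]
        omega
      have hc4 : (rm l (k - 1)).getD ((k - 1) + 1) 0 < (rm l (k - 1)).getD (k - 1) 0 := by
        rw [getD_rm hlen, getD_rm hlen, if_neg (by omega), if_pos rfl, e1, show k - 1 + 1 = k by omega, e3]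
        omega
      obtain ⟨d2, -, hd2⟩ := exists_deg (dec_rm hl1 hc3) (n := n - 1) (by have := sum_rm hc3; omega)
      obtain ⟨d3, -, hd3⟩ := exists_deg (dec_rm hl1 hc4) (n := n - 1) (by have := sum_rm hc4; omega)
      have h5 := branch_two hl1 hs1 (i := k - 2) (k := k - 1) (by omega) hc3 hc4
        (by rw [hd1, show n - 1 + 1 = n by omega]) hd2 hd3
      have hhr : (rm l (k - 1)).headD 0 ≤ a := by rw [ha]; exact headD_rm_le hlen
      have hcr : colLen (rm l (k - 1)) 0 ≤ k := by rw [hk]; rw [← hk]; exact (colLen_rm_le hl hc1 0).trans hk.ge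
      have h6 := ih2 _ d2 (dec_rm hl1 hc3) (by have := sum_rm hc3; omega) hd2
        ((headD_rm_le (lt_length_of_getD hc3)).trans (by omega)) ((colLen_rm_le hl1 hc3 0).trans (by omega))
      have h7 := ih2 _ d3 (dec_rm hl1 hc4) (by have := sum_rm hc4; omega) hd3
        ((headD_rm_le (lt_length_of_getD hc4)).trans (by omega)) ((colLen_rm_le hl1 hc4 0).trans (by omega))
      have h8 : M * d2 + M * d3 ≤ M * d1 := by rw [← mul_add]; exact Nat.mul_le_mul_left _ h5
      have h9 : M * d1 ≤ M * d := Nat.mul_le_mul_left _ h4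
      omega
    · -- two corners
      obtain ⟨d1, -, hd1⟩ := exists_deg (dec_rm hl hc1) (n := n) (by have := sum_rm hc1; omega)
      obtain ⟨d2, -, hd2⟩ := exists_deg (dec_rm hl hc2) (n := n) (by have := sum_rm hc2; omega)
      have h4 := branch_two hl hs (Ne.symm hne) hc1 hc2 hd hd1 hd2
      have h5 := ih1 _ d1 (dec_rm hl hc1) (by have := sum_rm hc1; omega) hd1
        ((headD_rm_le (lt_length_of_getD hc1)).trans (by omega)) ((colLen_rm_le hl hc1 0).trans (by omega))
      have h6 := ih1 _ d2 (dec_rm hl hc2) (by have := sum_rm hc2; omega) hd2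
        ((headD_rm_le (lt_length_of_getD hc2)).trans (by omega)) ((colLen_rm_le hl hc2 0).trans (by omega))
      have h8 : M * d1 + M * d2 ≤ M * d := by rw [← mul_add]; exact Nat.mul_le_mul_left _ h4
      omega

/-! ### base of the tables -/

/-- the bounds `t[K]` hold for all partitions -/
def baseChk (n : ℕ) (t : List ℕ) (l : List ℕ) (H : ℕ) : Bool :=
  (List.range t.length).all fun K =>
    Nat.blt (n - K) (l.headD 0) || Nat.blt (n - K) l.length || Nat.ble (t.getD K 0 * H) n.factorial

theorem lb_of_chk {n : ℕ} {t : List ℕ} (h : go (baseChk n t) (n + 1) n 1 [] 1 = true) {K : ℕ} (hK : K < t.length) :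
    LBs 1 K n (t.getD K 0) := by
  intro l d hl hs hd hh hc
  have h1 := check_of_isPart h (isPart_filter hl hs)
  rw [baseChk, List.all_eq_true] at h1
  have h2 := h1 K (List.mem_range.2 hK)
  rw [headD_filter_pos hl, length_filter_pos, hookProd_filter hl, Bool.or_eq_true, Bool.or_eq_true] at h2
  rcases h2 with (h2 | h2) | h2
  · rw [Nat.blt_eq] at h2; omega
  · rw [Nat.blt_eq] at h2; omega
  · have h3 := Nat.le_of_ble_eq_true h2
    rw [← hd] at h3
    rw [one_mul]
    exact Nat.le_of_mul_le_mul_right h3 (hookProd_pos hl)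

end Cfsg.Agent.H704.DS
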