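import Cfsg.Agent.H704.DS.LB

/-!
# Lower bounds for the degrees of `S_n`, `20 ≤ n ≤ 61` (helper704)
-/

set_option autoImplicit false
set_option linter.unusedSectionVars false
set_option maxRecDepth 100000

namespace Cfsg.Agent.H704.DS

open Finset Cfsg.Agent.H704

/-- the bounds for `n = 20, ..., 61` and `K = 0, ..., 12` -/
def lbtab : List (List ℕ) :=
  [[1, 19, 170, 950, 3705, 10659, 16796, 16796, 16796, 16796, 16796, 604656, 1385670],
   [1, 20, 189, 1120, 4655, 14364, 33915, 58786, 58786, 58786, 58786, 293930, 1385670],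
   [1, 21, 209, 1309, 5775, 19019, 33592, 33592, 33592, 33592, 33592, 33592, 33592],
   [1, 22, 230, 1518, 7084, 24794, 52611, 67184, 67184, 67184, 67184, 67184, 67184],
   [1, 23, 252, 1748, 8602, 31878, 67184, 67184, 67184, 67184, 67184, 67184, 67184],
   [1, 24, 275, 2000, 10350, 40480, 99062, 134368, 134368, 134368, 134368, 134368, 134368],
   [1, 25, 299, 2275, 12350, 50830, 134368, 134368, 134368, 134368, 134368, 134368, 134368],
   [1, 26, 324, 2574, 14625, 63180, 215280, 592020, 1332045, 2466750, 2674440, 2674440, 2674440],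
   [1, 27, 350, 2898, 17199, 77805, 278460, 807300, 1924065, 2674440, 2674440, 2674440, 2674440],
   [1, 28, 377, 3248, 20097, 95004, 356265, 1085760, 2664090, 4598505, 5348880, 5348880, 5348880],
   [1, 29, 405, 3625, 23345, 115101, 451269, 1442025, 3749850, 5348880, 5348880, 5348880, 5348880],
   [1, 30, 434, 4030, 26970, 138446, 566370, 1893294, 5191875, 9098730, 10697760, 10697760, 10697760],
   [1, 31, 464, 4464, 31000, 165416, 704816, 2459664, 7085169, 10697760, 10697760, 10697760, 10697760],
   [1, 32, 495, 4928, 35464, 196416, 870232, 3164480, 9544833, 17782929, 21395520, 21395520, 21395520],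
   [1, 33, 527, 5423, 40392, 231880, 1066648, 4034712, 12709313, 21395520, 21395520, 21395520, 21395520],
   [1, 34, 560, 5950, 45815, 272272, 1298528, 5101360, 16744025, 34104833, 42791040, 42791040, 42791040],
   [1, 35, 594, 6510, 51765, 318087, 1570800, 6399888, 21845385, 42791040, 42791040, 42791040, 42791040],
   [1, 36, 629, 7104, 58275, 369852, 1888887, 7970688, 28245273, 64636425, 85582080, 85582080, 85582080],
   [1, 37, 665, 7733, 65379, 428127, 2258739, 9859575, 36215961, 85582080, 85582080, 85582080, 85582080],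
   [1, 38, 702, 8398, 73112, 493506, 2686866, 12118314, 46075536, 121798041, 171164160, 171164160, 171164160],
   [1, 39, 740, 9100, 81510, 566618, 3180372, 14805180, 58193850, 167873577, 171164160, 171164160, 171164160],
   [1, 40, 779, 9840, 90610, 648128, 3746990, 17985552, 72999030, 226067427, 339037737, 342328320, 342328320],
   [1, 41, 819, 10619, 100450, 738738, 4395118, 21732542, 90984582, 299066457, 342328320, 342328320, 342328320],
   [1, 42, 860, 11438, 111069, 839188, 5133856, 26127660, 112717124, 390051039, 641394777, 684656640, 684656640],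
   [1, 43, 902, 12298, 122507, 950257, 5973044, 31261516, 138844784, 502768163, 684656640, 684656640, 684656640],
   [1, 44, 945, 13200, 134805, 1072764, 6923301, 37234560, 170106300, 641612947, 1187424803, 1369313280, 1369313280],
   [1, 45, 989, 14145, 148005, 1207569, 7996065, 44157861, 207340860, 811719247, 1369313280, 1369313280, 1369313280],
   [1, 46, 1034, 15134, 162150, 1355574, 9203634, 52153926, 251498721, 1019060107, 2181032527, 2738626560, 2738626560],
   [1, 47, 1080, 16168, 177284, 1517724, 10559208, 61357560, 303652647, 1270558828, 2738626560, 2738626560, 2738626560],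
   [1, 48, 1127, 17248, 193452, 1695008, 12076932, 71916768, 365010207, 1574211475, 4009185388, 5477253120, 5477253120],
   [1, 49, 1175, 18375, 210700, 1888460, 13771940, 83993700, 436926975, 1939221682, 5477253120, 5477253120, 5477253120],
   [1, 50, 1224, 19550, 229075, 2099160, 15660400, 97765640, 520920675, 2376148657, 7416474802, 10954506240, 10954506240],
   [1, 51, 1274, 20774, 248625, 2328235, 17759560, 113426040, 618686315, 2897069332, 9792623459, 10954506240, 10954506240],
   [1, 52, 1325, 22048, 269399, 2576860, 20087795, 131185600, 732112355, 3515755647, 12689692791, 20747129699, 21909012480],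
   [1, 53, 1377, 23373, 291447, 2846259, 22664655, 151273395, 863297955, 4247868002, 16205448438, 21909012480, 21909012480],
   [1, 54, 1430, 24750, 314820, 3137706, 25510914, 173938050, 1014571350, 5111165957, 20453316440, 38114460918, 43818024960],
   [1, 55, 1484, 26180, 339570, 3452526, 28648620, 199448964, 1188509400, 6125737307, 25564482397, 43818024960, 43818024960],
   [1, 56, 1539, 27664, 365750, 3792096, 32101146, 228097584, 1387958364, 7314246707, 31690219704, 69382507357, 87636049920],
   [1, 57, 1595, 29203, 393414, 4157846, 35893242, 260198730, 1616055948, 8702205071, 39004466411, 87636049920, 87636049920],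
   [1, 58, 1652, 30798, 422617, 4551260, 40051088, 296091972, 1876254678, 10318261019, 47706671482, 126640516331, 175272099840],
   [1, 59, 1710, 32450, 453415, 4973877, 44602348, 336143060, 2172346650, 12194515697, 58024932501, 174347187813, 175272099840],
   [1, 60, 1769, 34160, 485865, 5427292, 49576225, 380745408, 2508489710, 14366862347, 70219448198, 232372120314, 349619287653]]

/-- the row `n` -/
def tr (n : ℕ) : List ℕ := lbtab.getD (n - 20) []

/-- the entry `n`, `K` -/
def tg (n K : ℕ) : ℕ := (tr n).getD K 0

theorem base20 : go (baseChk 20 (tr 20)) 21 20 1 [] 1 = true := by decide +kernel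

theorem base21 : go (baseChk 21 (tr 21)) 22 21 1 [] 1 = true := by decide +kernel

theorem base27 : go (baseChk 27 (tr 27)) 28 27 1 [] 1 = true := by decide +kernel

theorem base28 : go (baseChk 28 (tr 28)) 29 28 1 [] 1 = true := by decide +kernel

/-- the step condition from `n - 1` and `n - 2` to `n` -/
def stepChk (n : ℕ) : Bool :=
  (List.range 13).all fun K =>
    if K = 0 then Nat.ble (tg n K) 1
    else if 2 * K + 3 ≤ n - 1 then
      (Nat.ble (tg n K) (tg (n - 1) K + tg (n - 1) (K - 1)) && Nat.ble (tg n K) (2 * tg (n - 1) K) &&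
        Nat.ble (tg n K) (2 * tg (n - 2) K)) || Nat.ble (tg n K) (tg n (K - 1))
    else Nat.ble (tg n K) (tg n (K - 1))

theorem step_row {n : ℕ} (h1 : ∀ K ≤ 12, LBs 1 K n (tg n K)) (h0 : ∀ K ≤ 12, LBs 1 K (n - 1) (tg (n - 1) K))
    (hc : stepChk (n + 1) = true) : ∀ K ≤ 12, LBs 1 K (n + 1) (tg (n + 1) K) := by
  intro K
  induction K with
  | zero =>
    intro _
    rw [stepChk, List.all_eq_true] at hc
    have h2 := hc 0 (by simp)
    rw [if_pos rfl] at h2
    exact (LBs.base 1 0 (n + 1)).mono (Nat.le_of_ble_eq_true h2)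
  | succ K ih =>
    intro hK
    have ih := ih (by omega)
    rw [stepChk, List.all_eq_true] at hc
    have h2 := hc (K + 1) (by rw [List.mem_range]; omega)
    rw [if_neg (by omega)] at h2
    simp only [Nat.add_sub_cancel] at h2
    split_ifs at h2 with h3
    · rw [Bool.or_eq_true, Bool.and_eq_true, Bool.and_eq_true] at h2
      rcases h2 with ⟨⟨g1, g2⟩, g3⟩ | h2
      · have g1 := Nat.le_of_ble_eq_true g1
        have g2 := Nat.le_of_ble_eq_true g2
        have g3 := Nat.le_of_ble_eq_true g3
        rw [show n + 1 - 2 = n - 1 by omega] at g3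
        exact LBs.step (by omega) h3 (h1 _ hK) (h1 K (by omega)) (h0 _ hK) g1 g2 g3
      · exact (ih.of_le (by omega)).mono (Nat.le_of_ble_eq_true h2)
    · exact (ih.of_le (by omega)).mono (Nat.le_of_ble_eq_true h2)

theorem row20 : ∀ K ≤ 12, LBs 1 K 20 (tg 20 K) := fun K hK => lb_of_chk base20 (by
  have : (tr 20).length = 13 := by decide
  omega)

theorem row21 : ∀ K ≤ 12, LBs 1 K 21 (tg 21 K) := fun K hK => lb_of_chk base21 (by
  have : (tr 21).length = 13 := by decide
  omega)

theorem row27 : ∀ K ≤ 12, LBs 1 K 27 (tg 27 K) := fun K hK => lb_of_chk base27 (by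
  have : (tr 27).length = 13 := by decide
  omega)

theorem row28 : ∀ K ≤ 12, LBs 1 K 28 (tg 28 K) := fun K hK => lb_of_chk base28 (by
  have : (tr 28).length = 13 := by decide
  omega)

theorem steps1 : (List.range 5).all (fun i => stepChk (22 + i)) = true := by decide +kernel

theorem steps2 : (List.range 33).all (fun i => stepChk (29 + i)) = true := by decide +kernel

theorem lbt_low (n : ℕ) (h1 : 20 ≤ n) (h2 : n ≤ 25) : (∀ K ≤ 12, LBs 1 K n (tg n K)) ∧
    ∀ K ≤ 12, LBs 1 K (n + 1) (tg (n + 1) K) := by
  induction n, h1 using Nat.le_induction with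
  | base => exact ⟨row20, row21⟩
  | succ n hn ih =>
    obtain ⟨g1, g2⟩ := ih (by omega)
    refine ⟨g2, step_row (n := n + 1) g2 g1 ?_⟩
    have h3 := List.all_eq_true.1 steps1 (n - 20) (by rw [List.mem_range]; omega)
    rwa [show 22 + (n - 20) = n + 1 + 1 by omega] at h3

theorem lbt_high (n : ℕ) (h1 : 27 ≤ n) (h2 : n ≤ 60) : (∀ K ≤ 12, LBs 1 K n (tg n K)) ∧
    ∀ K ≤ 12, LBs 1 K (n + 1) (tg (n + 1) K) := by
  induction n, h1 using Nat.le_induction with
  | base => exact ⟨row27, row28⟩
  | succ n hn ih =>
    obtain ⟨g1, g2⟩ := ih (by omega)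
    refine ⟨g2, step_row (n := n + 1) g2 g1 ?_⟩
    have h3 := List.all_eq_true.1 steps2 (n - 27) (by rw [List.mem_range]; omega)
    rwa [show 29 + (n - 27) = n + 1 + 1 by omega] at h3

/-- **the bounds, `20 ≤ n ≤ 61`** -/
theorem lbt {n : ℕ} (h1 : 20 ≤ n) (h2 : n ≤ 61) {K : ℕ} (hK : K ≤ 12) : LBs 1 K n (tg n K) := by
  rcases Nat.lt_or_ge n 26 with h | h
  · exact (lbt_low n h1 (by omega)).1 K hK
  · rcases Nat.lt_or_ge n 27 with h' | h'
    · have : n = 25 + 1 := by omega
      subst this
      exact (lbt_low 25 (by omega) (by omega)).2 K hK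
    · rcases Nat.lt_or_ge n 61 with h'' | h''
      · exact (lbt_high n h' (by omega)).1 K hK
      · have : n = 60 + 1 := by omega
        subst this
        exact (lbt_high 60 (by omega) (by omega)).2 K hK

end Cfsg.Agent.H704.DS
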