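import Cfsg.Agent.H704.DS.Base
import Cfsg.Agent.H704.DS.Table
import Cfsg.Agent.H704.DS.LBHigh

/-!
# Enumeration of the degrees of `S_n` with a long first row (helper704)

* `cover_T` : two primes `r < s` with `n < 2 r`, `s ≤ n` not dividing the degrees;
* `cover_L` : the degrees below a bound `B` with `LBs 1 K n B`;
* `Facts.kill_fast` : `n (n - 3)` does not divide `2 |K|` (`4 |K|`), `K = 3`.
-/

set_option autoImplicit false
set_option linter.unusedSectionVars false
set_option maxRecDepth 100000

universe u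

namespace Cfsg.Agent.H704.DS

open Cfsg Subgroup Cfsg.Agent.H704
open Cfsg.Agent.Characters.Core
open Cfsg.Agent.M23Order.Base

/-! ### the table -/

/-- partitions of `r` with all parts at most `b` -/
def pr : ℕ → ℕ → ℕ → List (List ℕ)
  | 0, _, _ => []
  | f + 1, r, b => if r = 0 then [[]] else
      (List.range (min b r)).flatMap fun i => (pr f (r - (i + 1)) (i + 1)).map fun t => (i + 1) :: t

theorem mem_pr : ∀ (t : List ℕ) (f r b : ℕ), Dec t → (∀ a ∈ t, 0 < a) → t.headD 0 ≤ b → t.sum = r → r < f →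
    t ∈ pr f r b := by
  intro t
  induction t with
  | nil =>
    intro f r b _ _ _ h3 h4
    cases f with
    | zero => omega
    | succ f =>
      rw [List.sum_nil] at h3
      rw [pr, if_pos h3.symm]
      simp
  | cons a t ih =>
    intro f r b h0 h1 h2 h3 h4
    cases f with
    | zero => omega
    | succ f =>
      have ha : 0 < a := h1 a (by simp)
      rw [List.sum_cons] at h3
      rw [List.headD_cons] at h2
      rw [pr, if_neg (by omega), List.mem_flatMap]
      refine ⟨a - 1, by rw [List.mem_range]; omega, ?_⟩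
      rw [show a - 1 + 1 = a by omega, List.mem_map]
      refine ⟨t, ?_, rfl⟩
      refine ih f (r - a) a (dec_tail h0) (fun c hc => h1 c (List.mem_cons_of_mem _ hc)) ?_ (by omega) (by omega)
      cases t with
      | nil => simp
      | cons c t => exact List.rel_of_pairwise_cons h0 (by simp)

/-- the entry of a partition -/
def ent (t : List ℕ) : ℕ × List ℕ :=
  (hookProd t, (List.range t.sum).map fun i => t.sum - 1 - i + t.getD i 0)

/-- the entries of the partitions of `k` with first part `m` -/
def row (k m : ℕ) : List (ℕ × List ℕ) := (tb.getD k []).getD m []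

def rowChk (k m : ℕ) : Bool :=
  row k m == (if k = 0 then [ent []] else (pr (k + 1) (k - m) m).map fun t => ent (m :: t))

theorem tb_ok : ((List.range 23).all fun k => (List.range (k + 1)).all fun m =>
    (k != 0 && m == 0) || (Nat.blt 12 k && Nat.blt 23 (k + m)) || rowChk k m) = true := by decide +kernel

theorem mem_row {t : List ℕ} (h0 : Dec t) (h1 : ∀ a ∈ t, 0 < a) (h : t.sum ≤ 12 ∨ t.sum + t.headD 0 ≤ 23) :
    ent t ∈ row t.sum (t.headD 0) := by
  cases t with
  | nil =>
    have h2 := List.all_eq_true.1 tb_ok 0 (by simp)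
    have h3 := List.all_eq_true.1 h2 0 (by simp)
    have h4 : rowChk 0 0 = true := by simpa using h3
    rw [rowChk, if_pos rfl, beq_iff_eq] at h4
    rw [List.sum_nil, List.headD_nil, h4]
    simp
  | cons a t =>
    have ha : 0 < a := h1 a (by simp)
    rw [List.sum_cons, List.headD_cons] at *
    have h2 := List.all_eq_true.1 tb_ok (a + t.sum) (by rw [List.mem_range]; omega)
    have h3 := List.all_eq_true.1 h2 a (by rw [List.mem_range]; omega)
    have h5 : (a + t.sum != 0 && a == 0) = false := by
      have : (a == 0) = false := by simpa using ha.ne'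
      rw [this, Bool.and_false]
    have h6 : (Nat.blt 12 (a + t.sum) && Nat.blt 23 (a + t.sum + a)) = false := by
      rw [Bool.eq_false_iff]
      intro h7
      rw [Bool.and_eq_true, Nat.blt_eq, Nat.blt_eq] at h7
      omega
    rw [h5, h6, Bool.false_or, Bool.false_or, rowChk, if_neg (by omega), beq_iff_eq] at h3
    rw [h3, List.mem_map]
    refine ⟨t, ?_, rfl⟩
    refine mem_pr t _ _ _ (dec_tail h0) (fun c hc => h1 c (List.mem_cons_of_mem _ hc)) ?_ (by omega) (by omega)
    cases t with
    | nil => simp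
    | cons c t => exact List.rel_of_pairwise_cons h0 (by simp)

/-- `∏ (n - c)` -/
noncomputable def prodR (n : ℕ) (l : List ℕ) : ℕ := List.rec (motive := fun _ => ℕ) 1 (fun c _ ih => (n - c) * ih) l

theorem prodR_eq (n : ℕ) (l : List ℕ) : prodR n l = (l.map fun c => n - c).prod := by
  induction l with
  | nil => rfl
  | cons c l ih =>
    rw [List.map_cons, List.prod_cons, ← ih]
    rfl

/-- the degree -/
noncomputable def ev (n : ℕ) (x : ℕ × List ℕ) : ℕ := Nat.div (prodR n x.2) x.1

theorem ev_ent {a : ℕ} {t : List ℕ} {n d : ℕ} (hl : IsPart (a :: t) n) (hd : d * hookProd (a :: t) = n.factorial) :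
    ev n (ent t) = d := by
  have h := deg_roots hl hd
  rw [ev, ent, prodR_eq]
  simp only [List.map_map]
  have h1 : ((List.range t.sum).map ((fun c => n - c) ∘ fun i => t.sum - 1 - i + t.getD i 0)).prod =
      d * hookProd t := by
    rw [h, Finset.prod_range]
    rw [← List.prod_ofFn, List.ofFn_eq_map]
    congr 1
    rw [← List.map_coe_finRange_eq_range, List.map_map]
    rfl
  rw [h1]
  exact Nat.mul_div_cancel d (hookProd_pos (dec_tail hl.sorted))

/-! ### two primes -/

/-- enumeration for two primes -/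
noncomputable def TE (W n : ℕ) (chk : ℕ → Bool) : Bool :=
  (List.range W).all fun k => (List.range (min k (W - k) + 1)).all fun m => (row k m).all fun x => chk (ev n x)

theorem cover_T {n r s W : ℕ} (hr : r.Prime) (hs : s.Prime) (hrs : r < s) (h1 : n < 2 * r) (h2 : s ≤ n)
    (hW : 2 * n + 1 ≤ W + r + s) (hW23 : W ≤ 23) : Cover n (fun d => ¬ r ∣ d ∧ ¬ s ∣ d) (TE W n) := by
  rintro chk h d ⟨l0, hl0, hd0⟩ ⟨h3, h4⟩
  obtain ⟨l, hl, hd, g1, g2, g3⟩ := exists_two_hooks hl0 hd0 hr hs hrs h1 h2 h3 h4
  cases l with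
  | nil => simp at g3
  | cons a t =>
    have hp : ∀ c ∈ t, 0 < c := fun c hc => hl.pos c (List.mem_cons_of_mem _ hc)
    have hsum : a + t.sum = n := by have := hl.sum; rwa [List.sum_cons] at this
    have hk : t.sum + t.headD 0 ≤ W := by
      cases t with
      | nil => simp
      | cons b t =>
        have h5 := rows_of_hooks hl g1 g2 (by
          have := hp b (by simp)
          simpa using this)
        simp only [List.getD_cons_succ, List.getD_cons_zero, List.headD_cons] at h5 ⊢
        omega
    have hm : t.headD 0 ≤ t.sum := by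
      cases t with
      | nil => simp
      | cons b t => simp
    have hk1 : t.sum < W := by
      cases t with
      | nil =>
        rw [List.sum_nil]
        omega
      | cons b t =>
        have := hp b (by simp)
        rw [List.headD_cons] at hk
        omega
    have h6 := mem_row (dec_tail hl.sorted) hp (Or.inr (by omega))
    rw [TE, List.all_eq_true] at h
    have h7 := h t.sum (List.mem_range.2 hk1)
    rw [List.all_eq_true] at h7
    have h8 := h7 (t.headD 0) (by rw [List.mem_range]; omega)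
    rw [List.all_eq_true] at h8
    have h9 := h8 _ h6
    rwa [ev_ent hl hd] at h9

theorem base2_T {two : Bool} {N r s : ℕ} {S : List (ℕ × ℕ)} (hr : r.Prime) (hs : s.Prime) (hr2 : r ≠ 2) (hs2 : s ≠ 2)
    (h1 : ¬ r ∣ N) (h2 : ¬ s ∣ N) : Base2 two N S fun d => ¬ r ∣ d ∧ ¬ s ∣ d := by
  intro d hd
  have key : ∀ q : ℕ, q.Prime → q ≠ 2 → ¬ q ∣ N → q ∣ d →
      base N S d = true ∧ (two = true → d % 2 = 0 → base N S (d / 2) = true) := by
    intro q hq hq2 hqN hqd
    have hb : ∀ e : ℕ, q ∣ e → base N S e = true := by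
      intro e he
      have : N % e ≠ 0 := fun h0 => hqN (he.trans (Nat.dvd_of_mod_eq_zero h0))
      unfold base
      have h3 : (N % e != 0) = true := by simpa using this
      rw [h3]; simp
    refine ⟨hb d hqd, fun _ h2 => hb _ ?_⟩
    obtain ⟨c, rfl⟩ := Nat.dvd_of_mod_eq_zero h2
    rw [Nat.mul_div_cancel_left _ (by norm_num)]
    rcases (hq.dvd_mul).1 hqd with h | h
    · exact absurd ((Nat.prime_dvd_prime_iff_eq hq Nat.prime_two).1 h) hq2
    · exact h
  by_cases h3 : r ∣ d
  · exact key r hr hr2 h1 h3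
  · have h4 : s ∣ d := by
      by_contra h4
      exact hd ⟨h3, h4⟩
    exact key s hs hs2 h2 h4

/-! ### lower bounds -/

/-- enumeration with a lower bound -/
noncomputable def LE (K n : ℕ) (chk : ℕ → Bool) : Bool :=
  (List.range K).all fun k => (List.range (k + 1)).all fun m => (row k m).all fun x => chk (ev n x)

theorem le_mem {K n : ℕ} {chk : ℕ → Bool} (hK : K ≤ 13) (h : LE K n chk = true) {l : List ℕ} {d : ℕ}
    (hl : IsPart l n) (hd : d * hookProd l = n.factorial) (hh : n - K < l.headD 0) : chk d = true := by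
  cases l with
  | nil => simp at hh
  | cons a t =>
    have hp : ∀ c ∈ t, 0 < c := fun c hc => hl.pos c (List.mem_cons_of_mem _ hc)
    have hsum : a + t.sum = n := by have := hl.sum; rwa [List.sum_cons] at this
    rw [List.headD_cons] at hh
    have hm : t.headD 0 ≤ t.sum := by
      cases t with
      | nil => simp
      | cons b t => simp
    have h6 := mem_row (dec_tail hl.sorted) hp (Or.inl (by omega))
    rw [LE, List.all_eq_true] at h
    have h7 := h t.sum (List.mem_range.2 (by omega))
    rw [List.all_eq_true] at h7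
    have h8 := h7 (t.headD 0) (by rw [List.mem_range]; omega)
    rw [List.all_eq_true] at h8
    have h9 := h8 _ h6
    rwa [ev_ent hl hd] at h9

theorem cover_L {n K B : ℕ} (hK : K ≤ 13) (hB : LBs 1 K n B) : Cover n (fun d => d < B) (LE K n) := by
  rintro chk h d ⟨l, hl, hd⟩ hdB
  by_cases h1 : n - K < l.headD 0
  · exact le_mem hK h hl hd h1
  by_cases h2 : n - K < colLen l 0
  · refine le_mem hK h (isPart_transpose hl) (by rw [hookProd_transpose hl, hd]) ?_
    rw [headD_eq_getD, getD_transpose hl.sorted]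
    exact h2
  · exfalso
    have := hB l d hl.sorted hl.sum hd (by omega) (by omega)
    omega

theorem base2_L {two : Bool} {N B : ℕ} {S : List (ℕ × ℕ)} (hB : (if two = true then 4 else 1) * N ≤ B * B) :
    Base2 two N S fun d => d < B := by
  intro d hd
  rw [not_lt] at hd
  have h1 : B * B ≤ d * d := Nat.mul_le_mul hd hd
  have hb : ∀ e : ℕ, N ≤ e * e → base N S e = true := by
    intro e he
    unfold base
    rw [Nat.ble_eq_true_of_le he]
    simp
  refine ⟨hb d ?_, fun h2 h3 => hb _ ?_⟩
  · refine le_trans ?_ (hB.trans h1)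
    split_ifs <;> omega
  · rw [if_pos h2] at hB
    obtain ⟨c, rfl⟩ := Nat.dvd_of_mod_eq_zero h3
    rw [Nat.mul_div_cancel_left _ (by norm_num)]
    have : 2 * c * (2 * c) = 4 * (c * c) := by ring
    omega

variable {K : Type u} [Group K] [Finite K] {N n : ℕ} {P : List ℕ} {S : List (ℕ × ℕ)} {two : Bool}

/-- **the check with two primes** -/
theorem Facts.kill_T (F : Facts K N P S) (hd : DegM two n K) {r s W : ℕ} (hr : r.Prime) (hs : s.Prime)
    (hr2 : r ≠ 2) (hrs : r < s) (h1 : n < 2 * r) (h2 : s ≤ n) (hrN : ¬ r ∣ N) (hsN : ¬ s ∣ N)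
    (hW : 2 * n + 1 ≤ W + r + s) (hW23 : W ≤ 23) (h : kill two N P S (TE W n) = true) : False :=
  F.killed hd (cover_T hr hs hrs h1 h2 hW hW23) (base2_T hr hs hr2 (by have := hr.two_le; omega) hrN hsN) h

/-- **the check with a lower bound** -/
theorem Facts.kill_L (F : Facts K N P S) (hd : DegM two n K) {L B : ℕ} (hL : L ≤ 13) (hB : LBs 1 L n B)
    (hN : (if two = true then 4 else 1) * N ≤ B * B) (h : kill two N P S (LE L n) = true) : False :=
  F.killed hd (cover_L hL hB) (base2_L hN) h

/-- **the fast check for large `n`** -/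
theorem Facts.kill_fast (F : Facts K N P S) (hd : DegM two n K) (hn : 9 ≤ n) (hP : P ≠ []) {B : ℕ}
    (hB : LBs 1 3 n B) (hN : (if two = true then 4 else 1) * N ≤ B * B)
    (h : (if two = true then 4 else 2) * N % (n * (n - 3)) ≠ 0) : False := by
  -- the degrees
  have hdeg : ∀ d, IsDeg n d → d < B → d = 1 ∨ d = n - 1 ∨ 2 * d = (n - 1) * (n - 2) ∨ 2 * d = n * (n - 3) := by
    intro d h1 h2
    have h3 := cover_L (K := 3) (by norm_num) hB
      (fun d => decide (d = 1 ∨ d = n - 1 ∨ 2 * d = (n - 1) * (n - 2) ∨ 2 * d = n * (n - 3))) ?_ d h1 h2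
    · simpa using h3
    · have e00 : row 0 0 = [(1, [])] := rfl
      have e10 : row 1 0 = [] := rfl
      have e11 : row 1 1 = [(1, [1])] := rfl
      have e20 : row 2 0 = [] := rfl
      have e21 : row 2 1 = [(2, [2, 1])] := rfl
      have e22 : row 2 2 = [(2, [3, 0])] := rfl
      have p0 : ev n (1, []) = 1 := Nat.div_one 1
      have p1 : ev n (1, [1]) = n - 1 := by
        show Nat.div ((n - 1) * 1) 1 = n - 1
        rw [mul_one]; exact Nat.div_one _
      have p2 : ev n (2, [2, 1]) = (n - 1) * (n - 2) / 2 := by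
        show ((n - 2) * ((n - 1) * 1)) / 2 = _
        rw [mul_one, mul_comm]
      have p3 : ev n (2, [3, 0]) = n * (n - 3) / 2 := by
        show ((n - 3) * ((n - 0) * 1)) / 2 = _
        rw [mul_one, mul_comm, Nat.sub_zero]
      have q2 : 2 * ((n - 1) * (n - 2) / 2) = (n - 1) * (n - 2) := by
        apply Nat.mul_div_cancel'
        obtain ⟨m, rfl⟩ := Nat.exists_eq_add_of_le hn
        rw [show 9 + m - 1 = m + 8 by omega, show 9 + m - 2 = m + 7 by omega]
        rcases Nat.even_or_odd m with ⟨c, hc⟩ | ⟨c, hc⟩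
        · exact Dvd.dvd.mul_right ⟨c + 4, by omega⟩ _
        · exact Dvd.dvd.mul_left ⟨c + 4, by omega⟩ _
      have q3 : 2 * (n * (n - 3) / 2) = n * (n - 3) := by
        apply Nat.mul_div_cancel'
        obtain ⟨m, rfl⟩ := Nat.exists_eq_add_of_le hn
        rw [show 9 + m - 3 = m + 6 by omega]
        rcases Nat.even_or_odd m with ⟨c, hc⟩ | ⟨c, hc⟩
        · exact Dvd.dvd.mul_left ⟨c + 3, by omega⟩ _
        · exact Dvd.dvd.mul_right ⟨c + 5, by omega⟩ _
      simp only [LE, List.range_succ, List.range_zero, List.nil_append, List.all_cons, List.all_nil, List.all_append,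
        Bool.and_true, e00, e10, e11, e20, e21, e22, p0, p1, p2, p3, q2, q3, true_or, or_true, decide_true,
        Bool.and_self]
  -- the degrees of `K`
  have key : ∀ (ψ : K → ℂ) (e : ℕ), IsIrrCharacter K ψ → ψ 1 = e → e ≠ 1 →
      ∃ d, (d = e ∨ d = 2 * e) ∧ (d = n - 1 ∨ 2 * d = (n - 1) * (n - 2)) := by
    intro ψ e hψ he h1
    obtain ⟨d, h2, h3⟩ := hd.nat hψ he
    have h4 := sq_lt_card hψ he h1
    have h5 := dvd_card hψ he
    rw [F.card] at h4 h5
    have h6 : d < B := by
      by_contra hcon
      rw [not_lt] at hcon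
      have h7 := Nat.mul_le_mul hcon hcon
      rcases h3 with rfl | ⟨rfl, rfl⟩
      · have : N ≤ (if two = true then 4 else 1) * N := by split_ifs <;> omega
        omega
      · have h8 : 2 * e * (2 * e) = 4 * (e * e) := by ring
        simp only [if_true] at hN
        omega
    rcases hdeg d h2 h6 with h7 | h7 | h7 | h7
    · exfalso; omega
    · exact ⟨d, by omega, Or.inl h7⟩
    · exact ⟨d, by omega, Or.inr h7⟩
    · exfalso
      apply h
      apply Nat.mod_eq_zero_of_dvd
      rw [← h7]
      rcases h3 with rfl | ⟨rfl, rfl⟩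
      · split_ifs
        · exact (Nat.mul_dvd_mul_left 2 h5).trans ⟨2, by ring⟩
        · exact Nat.mul_dvd_mul_left 2 h5
      · rw [if_pos rfl, ← mul_assoc]
        exact Nat.mul_dvd_mul_left 4 h5
  obtain ⟨p, hp, hpk⟩ : ∃ p : ℕ, p.Prime ∧ ∀ e d : ℕ, (d = e ∨ d = 2 * e) →
      (d = n - 1 ∨ 2 * d = (n - 1) * (n - 2)) → p ∣ e := by
    by_cases hodd : ∃ p : ℕ, p.Prime ∧ p ≠ 2 ∧ p ∣ n - 1
    · obtain ⟨p, hp, hp2, hpn⟩ := hodd
      have hp2' : ∀ x, p ∣ 2 * x → p ∣ x := by
        intro x hx
        rcases (hp.dvd_mul).1 hx with h | h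
        · exact absurd ((Nat.prime_dvd_prime_iff_eq hp Nat.prime_two).1 h) hp2
        · exact h
      refine ⟨p, hp, ?_⟩
      intro e d h1 h2
      have h3 : p ∣ d := by
        rcases h2 with h2 | h2
        · rw [h2]; exact hpn
        · apply hp2'
          rw [h2]
          exact hpn.mul_right _
      rcases h1 with rfl | rfl
      · exact h3
      · exact hp2' _ h3
    · push Not at hodd
      refine ⟨2, Nat.prime_two, ?_⟩
      obtain ⟨a, ha⟩ : ∃ a, n - 1 = 2 ^ a := ⟨_, Nat.eq_prime_pow_of_unique_prime_dvd (p := 2) (by omega) (by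
        intro q hq hqn
        by_contra hq2
        exact hodd q hq hq2 hqn)⟩
      have ha3 : 3 ≤ a := by
        by_contra hcon
        have : a ≤ 2 := by omega
        have h2 : 2 ^ a ≤ 2 ^ 2 := Nat.pow_le_pow_right (by norm_num) this
        omega
      obtain ⟨b, rfl⟩ := Nat.exists_eq_add_of_le ha3
      have h8 : n - 1 = 8 * 2 ^ b := by rw [ha, pow_add]; norm_num
      intro e d h1 h2
      have h9 : n - 2 = 8 * 2 ^ b - 1 := by omega
      rcases h2 with h2 | h2
      · have : d = 8 * 2 ^ b := by omega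
        omega
      · rw [h8, h9, show 8 * 2 ^ b * (8 * 2 ^ b - 1) = 8 * (2 ^ b * (8 * 2 ^ b - 1)) by ring] at h2
        omega
  obtain ⟨q, hq⟩ := List.exists_mem_of_ne_nil _ hP
  obtain ⟨g1, g2⟩ := F.prime q hq
  obtain ⟨ψ, e, h1, h2, h3, -, h5, -⟩ := H621.SymDeg.exists_irr_not_dvd F.perfect g1 (by rw [F.card]; exact g2)
  obtain ⟨d, k1, k2⟩ := key ψ e h1 h2 (by omega)
  have h6 := hpk e d k1 k2
  obtain ⟨ψ', e', k1, k2, k3, k4, -, -⟩ := H621.SymDeg.exists_irr_not_dvd F.perfect hp (h6.trans h5)
  obtain ⟨d', k5, k6⟩ := key ψ' e' k1 k2 (by omega)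
  exact k4 (hpk e' d' k5 k6)

end Cfsg.Agent.H704.DS
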