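import Cfsg.Agent.H704.DS.Row

/-!
# The relation of the principal block, and known degrees (helper704)

* `Facts.kill_rel` : `L` contains all the possible degrees (kernel check by enumeration), and no signed sum
  `1 + ε_1 χ_1(1) + ... = d f`;
* `Facts.kill_deg` : a known degree.
-/

set_option autoImplicit false
set_option linter.unusedSectionVars false
set_option maxRecDepth 100000

universe u

namespace Cfsg.Agent.H704.DS

open Cfsg Subgroup Cfsg.Agent.H704
open Cfsg.Agent.Characters.Core
open Cfsg.Agent.M23Order.Base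

/-- no `acc +` sum of `k` elements of the list is in `T` -/
def noSum (T : List ℤ) : List ℤ → ℕ → ℤ → Bool
  | [], k, acc => k != 0 || !(T.contains acc)
  | v :: vs, k, acc => (List.range (k + 1)).all fun j => noSum T vs (k - j) (acc + j * v)

theorem noSum_spec {T : List ℤ} : ∀ (vals : List ℤ) (k : ℕ) (acc : ℤ), noSum T vals k acc = true →
    ∀ s : Multiset ℤ, (∀ x ∈ s, x ∈ vals) → s.card = k → acc + s.sum ∉ T := by
  classical
  intro vals
  induction vals with
  | nil =>
    intro k acc h s hs hk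
    have h1 : s = 0 := by
      apply Multiset.eq_zero_of_forall_notMem
      intro x hx
      have := hs x hx
      simp at this
    subst h1
    rw [Multiset.card_zero] at hk
    rw [noSum, ← hk] at h
    rw [Multiset.sum_zero, add_zero]
    simpa using h
  | cons v vs ih =>
    intro k acc h s hs hk
    rw [noSum, List.all_eq_true] at h
    have h1 : s = Multiset.replicate (s.count v) v + s.filter (fun x => ¬ x = v) := by
      conv_lhs => rw [← Multiset.filter_add_not (fun x => x = v) s]
      rw [Multiset.filter_eq']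
    have h2 : s.count v ≤ k := by rw [← hk]; exact Multiset.count_le_card _ _
    have h3 := h (s.count v) (List.mem_range.2 (by omega))
    have h4 : (s.filter (fun x => ¬ x = v)).card = k - s.count v := by
      have h5 := congrArg Multiset.card h1
      rw [Multiset.card_add, Multiset.card_replicate, hk] at h5
      omega
    have h6 := ih _ _ h3 (s.filter (fun x => ¬ x = v)) (by
      intro x hx
      rw [Multiset.mem_filter] at hx
      have := hs x hx.1
      rw [List.mem_cons] at this
      exact this.resolve_left hx.2) h4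
    have h7 : s.sum = (s.count v : ℤ) * v + (s.filter (fun x => ¬ x = v)).sum := by
      conv_lhs => rw [h1]
      rw [Multiset.sum_add, Multiset.sum_replicate, nsmul_eq_mul]
    rw [h7, ← add_assoc]
    exact h6

/-- the signed nonexceptional degrees -/
def valsN (p : ℕ) (L : List ℕ) : List ℤ :=
  (L.filter fun x => x % p == 1).map (fun x : ℕ => (x : ℤ)) ++
    (L.filter fun x => x % p == p - 1).map (fun x : ℕ => -(x : ℤ))

/-- the signed exceptional degrees -/
def valsX (p e : ℕ) (L : List ℕ) : List ℤ :=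
  (L.filter fun x => x % p == e).map (fun x : ℕ => (x : ℤ)) ++
    (L.filter fun x => x % p == p - e).map (fun x : ℕ => -(x : ℤ))

/-- the check of the relation -/
def relChk (q : ℕ × ℕ) (L : List ℕ) : Bool :=
  Nat.ble 2 q.2 && noSum (valsX q.1 q.2 L) (valsN q.1 L) (q.2 - 1) 1

variable {K : Type u} [Group K] [Finite K] {N n : ℕ} {P : List ℕ} {S : List (ℕ × ℕ)} {two : Bool}

/-- the relation -/
theorem rel_false (hK : commutator K = ⊤) {q : ℕ × ℕ} (hq : SCok K q.1 q.2) {L : List ℕ}
    (hL : ∀ (ψ : K → ℂ) (e : ℕ), IsIrrCharacter K ψ → ψ 1 = e → e ≠ 1 → e ∈ L) (h : relChk q L = true) : False := by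
  classical
  obtain ⟨p, e⟩ := q
  obtain ⟨g1, g2, g3, t, R, g4, g5, ⟨D⟩⟩ := hq
  simp only at g1 g2 g3 g5 D
  rw [relChk, Bool.and_eq_true] at h
  have he2 := Nat.le_of_ble_eq_true h.1
  simp only at he2 h
  obtain ⟨Θ, hΘ⟩ : D.X.Nonempty := by rw [← Finset.card_pos, D.card_X]; exact g4
  have hne : ∀ χ : IrrCharacter K, χ ≠ D.one → dg χ ∈ L := by
    intro χ hχ
    refine hL χ (dg χ) χ.2 (dg_eq χ) ?_
    intro h0
    apply hχ
    apply Subtype.ext
    rw [D.coe_one]
    apply H621.SymDeg.eq_one_of_perfect hK χ.2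
    rw [dg_eq, h0, Nat.cast_one]
  -- the relation in degrees
  have hrel : ∑ χ ∈ D.NE, D.ε χ * (dg χ : ℤ) = D.d * (D.f : ℤ) := by
    have h1 := D.rel Θ hΘ 1 (by
      rw [orderOf_one]
      intro h0
      have := Nat.le_of_dvd one_pos h0
      omega)
    rw [dg_eq, D.deg_X Θ hΘ] at h1
    simp only [dg_eq] at h1
    exact_mod_cast h1
  have hone : dg D.one = 1 := by
    have h1 := dg_eq D.one
    rw [D.coe_one, Pi.one_apply] at h1
    exact_mod_cast h1.symm
  rw [← Finset.add_sum_erase _ _ D.one_mem, D.ε_one, hone, Nat.cast_one, mul_one] at hrel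
  have h2 := noSum_spec _ _ _ h.2 ((D.NE.erase D.one).val.map fun χ => D.ε χ * (dg χ : ℤ)) ?_ ?_
  · apply h2
    have h3 : ((D.NE.erase D.one).val.map fun χ => D.ε χ * (dg χ : ℤ)).sum =
        ∑ χ ∈ D.NE.erase D.one, D.ε χ * (dg χ : ℤ) := rfl
    rw [h3, hrel]
    -- the exceptional degree
    have h4 : D.f ∈ L := by
      rw [← D.deg_X Θ hΘ]
      apply hne
      intro h0
      exact Finset.disjoint_left.1 D.disj D.one_mem (h0 ▸ hΘ)
    have h5 := D.mod_X
    rw [valsX, List.mem_append, List.mem_map, List.mem_map]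
    rcases D.d_mem with h6 | h6
    · left
      refine ⟨D.f, ?_, by rw [h6, one_mul]⟩
      rw [List.mem_filter]
      refine ⟨h4, ?_⟩
      rw [h6, one_mul] at h5
      have h7 : (e : ℤ) ≡ D.f [ZMOD p] := (Int.modEq_iff_dvd).2 h5
      have h8 : e ≡ D.f [MOD p] := by exact_mod_cast h7
      have h9 : e % p = D.f % p := h8
      rw [Nat.mod_eq_of_lt g3] at h9
      simpa using h9.symm
    · right
      refine ⟨D.f, ?_, by rw [h6]; ring⟩
      rw [List.mem_filter]
      refine ⟨h4, ?_⟩
      have h7 := H417.BlockCount.mod_X' D g2 g3 hΘ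
      rw [D.deg_X Θ hΘ] at h7
      rcases h7 with h7 | h7
      · -- both
        rw [h6] at h5
        have h8 : (p : ℤ) ∣ (D.f + e : ℕ) := by
          have : ((D.f + e : ℕ) : ℤ) = (D.f : ℤ) - -1 * e := by push_cast; ring
          rw [this]; exact h5
        have h9 : p ∣ D.f + e := by exact_mod_cast h8
        have h10 : (D.f + e) % p = 0 := Nat.mod_eq_zero_of_dvd h9
        rw [Nat.add_mod, h7, Nat.mod_eq_of_lt g3] at h10
        have h11 : p ∣ e + e := Nat.dvd_of_mod_eq_zero h10
        obtain ⟨c, hc⟩ := h11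
        have hc1 : c = 1 := by
          have hc0 : c ≠ 0 := by rintro rfl; omega
          by_contra hc1
          have : p * 2 ≤ p * c := Nat.mul_le_mul_left p (by omega)
          omega
        rw [hc1, mul_one] at hc
        have : p - e = e := by omega
        rw [this]
        simpa using h7
      · simpa using h7
  · -- the nonexceptional degrees
    intro x hx
    rw [Multiset.mem_map] at hx
    obtain ⟨χ, hχ, rfl⟩ := hx
    have hχ' : χ ∈ D.NE.erase D.one := hχ
    rw [Finset.mem_erase] at hχ'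
    have h4 := hne χ hχ'.1
    have h5 := D.mod_NE χ hχ'.2
    rw [valsN, List.mem_append, List.mem_map, List.mem_map]
    rcases D.ε_mem χ hχ'.2 with h6 | h6
    · left
      refine ⟨dg χ, ?_, by rw [h6, one_mul]⟩
      rw [List.mem_filter]
      refine ⟨h4, ?_⟩
      rw [h6] at h5
      have h7 : (1 : ℤ) ≡ dg χ [ZMOD p] := (Int.modEq_iff_dvd).2 h5
      have h8 : 1 ≡ dg χ [MOD p] := by exact_mod_cast h7
      have h9 : 1 % p = dg χ % p := h8
      rw [Nat.mod_eq_of_lt (by omega)] at h9
      simpa using h9.symm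
    · right
      refine ⟨dg χ, ?_, by rw [h6]; ring⟩
      rw [List.mem_filter]
      refine ⟨h4, ?_⟩
      rw [h6] at h5
      have h8 : (p : ℤ) ∣ (dg χ + 1 : ℕ) := by
        have : ((dg χ + 1 : ℕ) : ℤ) = (dg χ : ℤ) - -1 := by push_cast; ring
        rw [this]; exact h5
      have h9 : p ∣ dg χ + 1 := by exact_mod_cast h8
      obtain ⟨k, hk⟩ := h9
      have hk0 : 0 < k := by
        rcases Nat.eq_zero_or_pos k with h0 | h0
        · rw [h0, mul_zero] at hk; omega
        · exact h0
      obtain ⟨m, rfl⟩ : ∃ m, k = m + 1 := ⟨k - 1, by omega⟩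
      have h10 : dg χ = (p - 1) + p * m := by
        rw [mul_add, mul_one] at hk
        omega
      have h11 : dg χ % p = p - 1 := by
        rw [h10, Nat.add_mul_mod_self_left, Nat.mod_eq_of_lt (by omega)]
      simpa using h11
  · rw [Multiset.card_map]
    have h3 : Multiset.card (D.NE.erase D.one).val = (D.NE.erase D.one).card := rfl
    rw [h3, Finset.card_erase_of_mem D.one_mem, D.card_NE]

/-- **the relation check**: `L` is a list containing all possible degrees -/
theorem Facts.kill_rel (F : Facts K N P S) (hd : DegM two n K) {Q : ℕ → Prop} {E : (ℕ → Bool) → Bool}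
    (hE : Cover n Q E) (hQ : Base2 two N S Q) {L : List ℕ}
    (h : E (leaf two fun e => base N S e || L.contains e) = true) {q : ℕ × ℕ} (hq : q ∈ S)
    (hr : relChk q L = true) : False := by
  refine rel_false F.perfect (F.sc q hq) (L := L) ?_ hr
  intro ψ e h1 h2 h3
  have h4 := F.test' hd hE hQ h h1 h2 h3
  simpa using h4

/-- the relation check, full enumeration -/
theorem Facts.kill_rel_full (F : Facts K N P S) (hd : DegM two n K) {L : List ℕ}
    (h : fullE n (leaf two fun e => base N S e || L.contains e) = true) {q : ℕ × ℕ} (hq : q ∈ S)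
    (hr : relChk q L = true) : False :=
  F.kill_rel hd (cover_full n) (base2_true _ _ _) h hq hr

/-- the relation check, lower bounds (`20 ≤ n ≤ 61`) -/
theorem Facts.kill_rel_L (F : Facts K N P S) (hd : DegM two n K) {L : List ℕ} (k B : ℕ)
    (h0 : (Nat.ble 20 n && Nat.ble n 61 && Nat.ble k 12 && Nat.ble B (tg n k) &&
      Nat.ble ((if two = true then 4 else 1) * N) (B * B)) = true)
    (h : LE k n (leaf two fun e => base N S e || L.contains e) = true) {q : ℕ × ℕ} (hq : q ∈ S)
    (hr : relChk q L = true) : False := by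
  simp only [Bool.and_eq_true] at h0
  obtain ⟨⟨⟨⟨g1, g2⟩, g3⟩, g4⟩, g5⟩ := h0
  have g1 := Nat.le_of_ble_eq_true g1
  have g2 := Nat.le_of_ble_eq_true g2
  have g3 := Nat.le_of_ble_eq_true g3
  have g4 := Nat.le_of_ble_eq_true g4
  have g5 := Nat.le_of_ble_eq_true g5
  exact F.kill_rel hd (cover_L (by omega) ((lbt g1 g2 g3).mono g4)) (base2_L g5) h hq hr

/-- the relation check, two primes -/
theorem Facts.kill_rel_T (F : Facts K N P S) (hd : DegM two n K) {L : List ℕ} (r s : ℕ)
    (h0 : (isP r && isP s && Nat.blt r s && Nat.ble 3 r && Nat.ble s n && Nat.blt n (2 * r) &&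
      (N % r != 0) && (N % s != 0) && Nat.ble (2 * n + 1) (23 + r + s)) = true)
    (h : TE (2 * n + 1 - r - s) n (leaf two fun e => base N S e || L.contains e) = true) {q : ℕ × ℕ} (hq : q ∈ S)
    (hr : relChk q L = true) : False := by
  simp only [Bool.and_eq_true, bne_iff_ne, ne_eq] at h0
  obtain ⟨⟨⟨⟨⟨⟨⟨⟨g1, g2⟩, g3⟩, g4⟩, g5⟩, g6⟩, g7⟩, g8⟩, g9⟩ := h0
  rw [Nat.blt_eq] at g3 g6
  have g4 := Nat.le_of_ble_eq_true g4
  have g5 := Nat.le_of_ble_eq_true g5
  have g9 := Nat.le_of_ble_eq_true g9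
  exact F.kill_rel hd (cover_T (prime_of_isP g1) (prime_of_isP g2) g3 g6 g5 (by omega) (by omega))
    (base2_T (prime_of_isP g1) (prime_of_isP g2) (by omega) (by omega)
      (fun h => g7 (Nat.mod_eq_zero_of_dvd h)) (fun h => g8 (Nat.mod_eq_zero_of_dvd h))) h hq hr

/-- enumeration with one prime -/
def PE (r n : ℕ) (chk : ℕ → Bool) : Bool := goP (n - r) (fun H => chk (Nat.div n.factorial H)) (n + 1) n 1 [] 1

theorem cover_P {n r : ℕ} (hr : r.Prime) (h : r ≤ n) : Cover n (fun d => ¬ r ∣ d) (PE r n) := by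
  intro chk h1 d hd h2
  exact check_of_isDegP hr h (by omega) h1 hd h2

/-- **the check with one prime** (`r ≤ n`, `n - r` small) -/
theorem Facts.kill_P (F : Facts K N P S) (hd : DegM two n K) (r : ℕ)
    (h0 : (isP r && Nat.ble 3 r && Nat.ble r n && (N % r != 0)) = true)
    (h : kill two N P S (PE r n) = true) : False := by
  simp only [Bool.and_eq_true, bne_iff_ne, ne_eq] at h0
  obtain ⟨⟨⟨g1, g2⟩, g3⟩, g4⟩ := h0
  have g2 := Nat.le_of_ble_eq_true g2
  have g3 := Nat.le_of_ble_eq_true g3
  refine F.killed hd (cover_P (prime_of_isP g1) g3) ?_ h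
  have h1 := base2_T (two := two) (S := S) (prime_of_isP g1) (prime_of_isP g1) (by omega) (by omega)
    (fun h => g4 (Nat.mod_eq_zero_of_dvd h)) (fun h => g4 (Nat.mod_eq_zero_of_dvd h))
  intro d hd
  exact h1 d fun h => hd h.1

/-- **a known degree**, full enumeration -/
theorem DegM.kill_full (hd : DegM two n K) {ψ : K → ℂ} (hψ : IsIrrCharacter K ψ) {e : ℕ} (he : ψ 1 = e)
    (h : fullE n (fun d => d != e && (!two || d != 2 * e)) = true) : False := by
  obtain ⟨d, h1, h2⟩ := hd.nat hψ he
  have h3 := cover_full n _ h d h1 trivial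
  simp only [Bool.and_eq_true, bne_iff_ne, ne_eq] at h3
  rcases h2 with rfl | ⟨rfl, rfl⟩
  · exact h3.1 rfl
  · simp at h3

/-- a known degree, lower bounds (`20 ≤ n ≤ 61`) -/
theorem DegM.kill_L (hd : DegM two n K) {ψ : K → ℂ} (hψ : IsIrrCharacter K ψ) {e : ℕ} (he : ψ 1 = e) (k : ℕ)
    (h0 : (Nat.ble 20 n && Nat.ble n 61 && Nat.ble k 12 && Nat.blt (2 * e) (tg n k)) = true)
    (h : LE k n (fun d => d != e && (!two || d != 2 * e)) = true) : False := by
  simp only [Bool.and_eq_true] at h0
  obtain ⟨⟨⟨g1, g2⟩, g3⟩, g4⟩ := h0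
  have g1 := Nat.le_of_ble_eq_true g1
  have g2 := Nat.le_of_ble_eq_true g2
  have g3 := Nat.le_of_ble_eq_true g3
  rw [Nat.blt_eq] at g4
  obtain ⟨d, h1, h2⟩ := hd.nat hψ he
  have h3 := cover_L (by omega) (lbt g1 g2 g3) _ h d h1 (by
    simp only
    rcases h2 with rfl | ⟨-, rfl⟩ <;> omega)
  simp only [Bool.and_eq_true, bne_iff_ne, ne_eq] at h3
  rcases h2 with rfl | ⟨rfl, rfl⟩
  · exact h3.1 rfl
  · simp at h3

/-- a known degree and a prime power: `m ∣ e`, `¬ m ∣ n!` -/
theorem DegM.kill_dvd (hd : DegM two n K) {ψ : K → ℂ} (hψ : IsIrrCharacter K ψ) {e : ℕ} (he : ψ 1 = e) {m : ℕ}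
    (hm : m ∣ e) (h : ¬ m ∣ n.factorial) : False := by
  obtain ⟨d, ⟨l, -, h1⟩, h2⟩ := hd.nat hψ he
  apply h
  rw [← h1]
  apply Dvd.dvd.mul_right
  rcases h2 with rfl | ⟨-, rfl⟩
  · exact hm
  · exact hm.mul_left 2

end Cfsg.Agent.H704.DS
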