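import Cfsg.Agent.H704.Hooks
import Cfsg.Agent.H704.LowDegree
import Cfsg.Agent.H704.Branch

/-!
# The degree of `(n - k, μ)` as a polynomial in `n` (helper704)
-/

set_option autoImplicit false
set_option linter.unusedSectionVars false

namespace Cfsg.Agent.H704.DS

open Finset Cfsg.Agent.H704

theorem dec_tail {a : ℕ} {t : List ℕ} (h : Dec (a :: t)) : Dec t := List.Pairwise.of_cons h

theorem colLen_le_sum {t : List ℕ} (hp : ∀ a ∈ t, 0 < a) (j : ℕ) : colLen t j ≤ t.sum := by
  have h1 := colLen_le_length t j
  have h2 : t.length ≤ t.sum := by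
    have h11 : ∀ c ∈ t, 1 ≤ c := fun c hc => hp c hc
    have := List.card_nsmul_le_sum _ 1 h11
    simpa using this
  omega

/-- the numbers `k - 1 - i + t_i` and `k + j - t'_j` are the numbers `0, ..., k + m - 1` -/
theorem prod_split {t : List ℕ} (hS : Dec t) (hp : ∀ a ∈ t, 0 < a) (F : ℕ → ℕ) :
    ∏ c ∈ range (t.sum + t.headD 0), F c =
      (∏ i ∈ range t.sum, F (t.sum - 1 - i + t.getD i 0)) * ∏ j ∈ range (t.headD 0), F (t.sum + j - colLen t j) := by
  classical
  set k := t.sum with hk
  set m := t.headD 0 with hm
  set c : ℕ → ℕ := fun i => k - 1 - i + t.getD i 0 with hc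
  set c' : ℕ → ℕ := fun j => k + j - colLen t j with hc'
  have hcl : ∀ j, colLen t j ≤ k := fun j => colLen_le_sum hp j
  have hinj : Set.InjOn c (range k) := by
    intro i hi i' hi' h
    rw [coe_range, Set.mem_Iio] at hi hi'
    simp only [hc] at h
    rcases lt_trichotomy i i' with h1 | h1 | h1
    · have := getD_anti hS h1.le; omega
    · exact h1
    · have := getD_anti hS h1.le; omega
  have hinj' : Set.InjOn c' (range m) := by
    intro j hj j' hj' h
    simp only [hc'] at h
    have g1 := hcl j
    have g2 := hcl j'
    rcases lt_trichotomy j j' with h1 | h1 | h1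
    · have := colLen_anti t h1.le; omega
    · exact h1
    · have := colLen_anti t h1.le; omega
  have hdisj : Disjoint ((range k).image c) ((range m).image c') := by
    rw [Finset.disjoint_left]
    intro x hx hx'
    obtain ⟨i, hi, h1⟩ := mem_image.1 hx
    obtain ⟨j, hj, h2⟩ := mem_image.1 hx'
    rw [mem_range] at hi hj
    simp only [hc] at h1
    simp only [hc'] at h2
    have g := hcl j
    by_cases h : j < t.getD i 0
    · have h3 := (lt_colLen_iff hS i j).2 h
      omega
    · have h3 : ¬ i < colLen t j := fun h4 => h ((lt_colLen_iff hS i j).1 h4)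
      omega
  have hunion : (range k).image c ∪ (range m).image c' = range (k + m) := by
    apply Finset.eq_of_subset_of_card_le
    · intro x hx
      rw [mem_range]
      rcases mem_union.1 hx with h | h
      · obtain ⟨i, hi, h1⟩ := mem_image.1 h
        rw [mem_range] at hi
        simp only [hc] at h1
        have h2 := getD_anti hS (Nat.zero_le i)
        rw [← headD_eq_getD] at h2
        omega
      · obtain ⟨j, hj, h1⟩ := mem_image.1 h
        rw [mem_range] at hj
        simp only [hc'] at h1
        omega
    · rw [card_union_of_disjoint hdisj, card_image_of_injOn hinj, card_image_of_injOn hinj', card_range,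
        card_range, card_range]
  rw [← hunion, prod_union hdisj, prod_image (by simpa using hinj), prod_image (by simpa using hinj')]

/-- **the degree of `(n - k, μ)`** -/
theorem deg_roots {a : ℕ} {t : List ℕ} {n d : ℕ} (hl : IsPart (a :: t) n) (hd : d * hookProd (a :: t) = n.factorial) :
    d * hookProd t = ∏ i ∈ range t.sum, (n - (t.sum - 1 - i + t.getD i 0)) := by
  have hS := hl.sorted
  have hSt := dec_tail hS
  have hp : ∀ c ∈ t, 0 < c := fun c hc => hl.pos c (List.mem_cons_of_mem _ hc)
  obtain ⟨f, -, hf⟩ := exists_deg (l := t) (n := t.sum) hSt rfl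
  have h := deg_mul_desc hl hd hf
  have hsum : a + t.sum = n := by have := hl.sum; rwa [List.sum_cons] at this
  have hk : t.headD 0 ≤ a := by
    cases t with
    | nil => simp
    | cons b t => exact List.rel_of_pairwise_cons hS (by simp)
  rw [Nat.descFactorial_eq_prod_range, prod_split hSt hp fun c => n - c] at h
  have hA : ∏ j ∈ range (t.headD 0), (n - (t.sum + j - colLen t j)) =
      ∏ j ∈ range (t.headD 0), (a - j + colLen t j) := by
    apply prod_congr rfl
    intro j hj
    rw [mem_range] at hj
    have := colLen_le_sum hp j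
    omega
  rw [hA] at h
  have hpos : 0 < ∏ j ∈ range (t.headD 0), (a - j + colLen t j) := by
    apply prod_pos
    intro j hj
    rw [mem_range] at hj
    omega
  have hf0 : 0 < t.sum.factorial := Nat.factorial_pos _
  apply Nat.eq_of_mul_eq_mul_right hpos
  apply Nat.eq_of_mul_eq_mul_right hf0
  calc d * hookProd t * (∏ j ∈ range (t.headD 0), (a - j + colLen t j)) * t.sum.factorial
      = (d * (∏ j ∈ range (t.headD 0), (a - j + colLen t j)) * t.sum.factorial) * hookProd t := by ring
    _ = _ := by rw [h, ← hf]; ring

end Cfsg.Agent.H704.DS
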