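import Cfsg.Agent.H704.DS.Level

/-!
# Kernel check of whole ranges of `n` (helper704)

`Facts.of_segs` : a list of segments, checked by the kernel, kills all `n` in the range covered.
-/

set_option autoImplicit false
set_option linter.unusedSectionVars false
set_option maxRecDepth 100000

universe u

namespace Cfsg.Agent.H704.DS

open Cfsg Subgroup Cfsg.Agent.H704

/-- primality test -/
def isP (r : ℕ) : Bool := Nat.ble 2 r && (List.range r).all fun k => Nat.ble k 1 || (r % k != 0)

theorem prime_of_isP {r : ℕ} (h : isP r = true) : r.Prime := by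
  rw [isP, Bool.and_eq_true, List.all_eq_true] at h
  have h2 := Nat.le_of_ble_eq_true h.1
  rw [Nat.prime_def_lt]
  refine ⟨h2, ?_⟩
  intro m hm hd
  have h3 := h.2 m (List.mem_range.2 hm)
  rw [Bool.or_eq_true] at h3
  rcases h3 with h3 | h3
  · have h4 := Nat.le_of_ble_eq_true h3
    rcases Nat.eq_zero_or_pos m with rfl | h5
    · rw [Nat.zero_dvd] at hd; omega
    · omega
  · simp only [bne_iff_ne, ne_eq] at h3
    exact absurd (Nat.mod_eq_zero_of_dvd hd) h3

/-- `f` on `hi - k, ..., hi - 1` -/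
def rg (f : ℕ → Bool) (hi : ℕ) : ℕ → Bool
  | 0 => true
  | k + 1 => f (hi - (k + 1)) && rg f hi k

theorem rg_spec {f : ℕ → Bool} {hi : ℕ} : ∀ {k : ℕ}, rg f hi k = true → ∀ n, hi ≤ n + k → n < hi → f n = true := by
  intro k
  induction k with
  | zero => intro _ n h1 h2; omega
  | succ k ih =>
    intro h n h1 h2
    rw [rg, Bool.and_eq_true] at h
    by_cases h3 : hi ≤ n + k
    · exact ih h.2 n h3 h2
    · have : n = hi - (k + 1) := by omega
      rw [this]; exact h.1

/-- segments `lo ≤ n < hi` -/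
inductive Seg
  /-- full enumeration -/
  | full (lo hi : ℕ)
  /-- two primes `r < s` -/
  | two (lo hi r s : ℕ)
  /-- lower bounds for the first row (column) at most `n - L` -/
  | lev (lo hi L : ℕ)
  /-- the fast check -/
  | fast (lo hi : ℕ)

/-- start of a segment -/
def Seg.lo : Seg → ℕ
  | .full lo _ => lo
  | .two lo _ _ _ => lo
  | .lev lo _ _ => lo
  | .fast lo _ => lo

/-- end of a segment -/
def Seg.hi : Seg → ℕ
  | .full _ hi => hi
  | .two _ hi _ _ => hi
  | .lev _ hi _ => hi
  | .fast _ hi => hi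

/-- the kernel check of a segment; `B` with `4 N ≤ B²` (`N ≤ B²` for `two = false`) -/
noncomputable def segChk (two : Bool) (N : ℕ) (P : List ℕ) (S : List (ℕ × ℕ)) (B : ℕ) : Seg → Bool
  | .full lo hi => rg (fun n => kill two N P S (fullE n)) hi (hi - lo)
  | .two lo hi r s => isP r && isP s && Nat.blt r s && Nat.ble 3 r && Nat.ble s lo && Nat.ble hi (2 * r) &&
      (N % r != 0) && (N % s != 0) && Nat.ble (2 * hi) (24 + r + s) &&
      rg (fun n => kill two N P S (TE (2 * n + 1 - r - s) n)) hi (hi - lo)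
  | .lev lo hi L => Nat.ble L 12 && Nat.ble ((if two = true then 4 else 1) * N) (B * B) &&
      if hi ≤ 62 then Nat.ble 20 lo && rg (fun n => Nat.ble B (tg n L) && kill two N P S (LE L n)) hi (hi - lo)
      else Nat.ble 60 lo && Nat.ble (100 * L.factorial * B) (wt L * Rp L lo) &&
        rg (fun n => kill two N P S (LE L n)) hi (hi - lo)
  | .fast lo hi => Nat.ble ((if two = true then 4 else 1) * N) (B * B) && Nat.ble 60 lo &&
      Nat.ble (600 * B) (95 * Rp 3 lo) &&
      rg (fun n => ((if two = true then 4 else 2) * N % (n * (n - 3)) != 0) || kill two N P S (LE 3 n)) hi (hi - lo)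

variable {K : Type u} [Group K] [Finite K] {N n : ℕ} {P : List ℕ} {S : List (ℕ × ℕ)} {two : Bool}

theorem Facts.of_seg (F : Facts K N P S) (hd : DegM two n K) (hP : P ≠ []) {B : ℕ} {s : Seg}
    (h : segChk two N P S B s = true) (h1 : s.lo ≤ n) (h2 : n < s.hi) : False := by
  cases s with
  | full lo hi =>
    simp only [Seg.lo, Seg.hi] at h1 h2
    rw [segChk] at h
    have h3 := rg_spec h n (by omega) h2
    exact F.kill_full hd h3
  | two lo hi r s =>
    simp only [Seg.lo, Seg.hi] at h1 h2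
    rw [segChk] at h
    simp only [Bool.and_eq_true, bne_iff_ne, ne_eq] at h
    obtain ⟨⟨⟨⟨⟨⟨⟨⟨⟨g1, g2⟩, g3⟩, g4⟩, g5⟩, g6⟩, g7⟩, g8⟩, g9⟩, g10⟩ := h
    rw [Nat.blt_eq] at g3
    have g4 := Nat.le_of_ble_eq_true g4
    have g5 := Nat.le_of_ble_eq_true g5
    have g6 := Nat.le_of_ble_eq_true g6
    have g9 := Nat.le_of_ble_eq_true g9
    have h3 := rg_spec g10 n (by omega) h2
    refine F.kill_T hd (prime_of_isP g1) (prime_of_isP g2) (by omega) g3 (by omega) (by omega)
      (fun h => g7 (Nat.mod_eq_zero_of_dvd h)) (fun h => g8 (Nat.mod_eq_zero_of_dvd h)) ?_ ?_ h3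
    · omega
    · omega
  | lev lo hi L =>
    simp only [Seg.lo, Seg.hi] at h1 h2
    rw [segChk] at h
    rw [Bool.and_eq_true, Bool.and_eq_true] at h
    obtain ⟨⟨g1, g2⟩, h⟩ := h
    have g1 := Nat.le_of_ble_eq_true g1
    have g2 := Nat.le_of_ble_eq_true g2
    split_ifs at h with h62
    · rw [Bool.and_eq_true] at h
      have g3 := Nat.le_of_ble_eq_true h.1
      have h3 := rg_spec h.2 n (by omega) h2
      simp only [Bool.and_eq_true] at h3
      exact F.kill_L hd (by omega) ((lbt (by omega) (by omega) g1).mono (Nat.le_of_ble_eq_true h3.1)) g2 h3.2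
    · rw [Bool.and_eq_true, Bool.and_eq_true] at h
      obtain ⟨⟨g3, g4⟩, g5⟩ := h
      have g3 := Nat.le_of_ble_eq_true g3
      have g4 := Nat.le_of_ble_eq_true g4
      have h3 := rg_spec g5 n (by omega) h2
      exact F.kill_L hd (by omega) (lb_high g1 g3 h1 g4) g2 h3
  | fast lo hi =>
    simp only [Seg.lo, Seg.hi] at h1 h2
    rw [segChk] at h
    simp only [Bool.and_eq_true] at h
    obtain ⟨⟨⟨g1, g2⟩, g3⟩, g4⟩ := h
    have g1 := Nat.le_of_ble_eq_true g1
    have g2 := Nat.le_of_ble_eq_true g2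
    have g3 := Nat.le_of_ble_eq_true g3
    have h3 := rg_spec g4 n (by omega) h2
    have hB : LBs 1 3 n B := lb_high (by norm_num) g2 h1 (by
      rw [show 100 * Nat.factorial 3 = 600 by rfl]
      exact g3)
    simp only [Bool.or_eq_true, bne_iff_ne, ne_eq] at h3
    rcases h3 with h3 | h3
    · exact F.kill_fast hd (by omega) hP hB g1 h3
    · exact F.kill_L hd (by norm_num) hB g1 h3

/-- the segments cover `lo ≤ n < hi` -/
def covers (lo hi : ℕ) : List Seg → Bool
  | [] => Nat.ble hi lo
  | s :: l => Nat.ble s.lo lo && covers s.hi hi l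

theorem covers_spec : ∀ (l : List Seg) (lo hi : ℕ), covers lo hi l = true → ∀ n, lo ≤ n → n < hi →
    ∃ s ∈ l, s.lo ≤ n ∧ n < s.hi := by
  intro l
  induction l with
  | nil =>
    intro lo hi h n h1 h2
    have := Nat.le_of_ble_eq_true h
    omega
  | cons s l ih =>
    intro lo hi h n h1 h2
    rw [covers, Bool.and_eq_true] at h
    have h3 := Nat.le_of_ble_eq_true h.1
    by_cases h4 : n < s.hi
    · exact ⟨s, by simp, by omega, h4⟩
    · obtain ⟨s', hs', h5⟩ := ih s.hi hi h.2 n (by omega) h2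
      exact ⟨s', by simp [hs'], h5⟩

/-- **the kernel check of a range of `n`** -/
theorem Facts.of_segs (F : Facts K N P S) (hd : DegM two n K) (hP : P ≠ []) (B : ℕ) (l : List Seg) {lo hi : ℕ}
    (hc : covers lo hi l = true) (h : (l.all fun s => segChk two N P S B s) = true) (h1 : lo ≤ n) (h2 : n < hi) :
    False := by
  obtain ⟨s, hs, g1, g2⟩ := covers_spec l lo hi hc n h1 h2
  exact F.of_seg hd hP (List.all_eq_true.1 h s hs) g1 g2

end Cfsg.Agent.H704.DS
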